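import Mathlib
import Cfsg.Agent.FGS.AutFrattini
import Cfsg.Prelude.Def_PLocal

/-!
# The automiser of an elementary abelian Sylow 2-subgroup of order 8 in a simple group
-/

set_option autoImplicit false

namespace Cfsg.Agent.E8Auto

open Subgroup
open scoped IsMulCommutative

variable {G : Type*} [Group G] [Finite G]

/-- An odd-order automorphism of a group of order 8 with a nontrivial fixed point but not trivial
has only two fixed points if its order is 3, and none if its order is 7. -/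
theorem fixed_count {P : Type*} [Group P] [Finite P] (h8 : Nat.card P = 8) {p : ℕ} [Fact p.Prime]
    (hp : p = 3 ∨ p = 7) (α : MulAut P) (hα : α ^ p = 1) (hne : α ≠ 1) :
    (p = 3 → ∃ t : P, t ≠ 1 ∧ α t = t ∧ ∀ s, α s = s → s = 1 ∨ s = t) ∧
      (p = 7 → ∀ s, α s = s → s = 1) := by
  classical
  have : Fintype P := Fintype.ofFinite P
  set F : Subgroup P := α.toMonoidHom.eqLocus (MonoidHom.id P) with hF
  have hmem : ∀ s, s ∈ F ↔ α s = s := fun s => Iff.rfl
  set σ : Equiv.Perm P := α.toEquiv with hσ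
  have hpow : ∀ k : ℕ, σ ^ k = (α ^ k).toEquiv := fun k => by
    induction k with
    | zero => rfl
    | succ k ih => rw [pow_succ, ih, pow_succ]; rfl
  have hσp : σ ^ p ^ 1 = 1 := by rw [pow_one, hpow, hα]; rfl
  have hcard : σ.supportᶜ.card = Nat.card F := by
    rw [Nat.card_eq_fintype_card, Fintype.card_subtype]
    refine congrArg Finset.card (Finset.ext fun s => ?_)
    simp [hmem, hσ]
  have hmod := Equiv.Perm.card_compl_support_modEq hσp
  rw [hcard, ← Nat.card_eq_fintype_card, h8] at hmod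
  have hdvd : Nat.card F ∣ 8 := h8 ▸ card_subgroup_dvd_card F
  have hFne : Nat.card F ≠ 8 := fun h => hne (MulEquiv.ext fun s => by
    have : F = ⊤ := eq_top_of_card_eq F (h.trans h8.symm)
    exact (hmem s).1 (this ▸ mem_top s))
  have h4 : Nat.card F ∈ ({1, 2, 4, 8} : Finset ℕ) := by
    have := Nat.mem_divisors.2 ⟨hdvd, by norm_num⟩
    rwa [show (8 : ℕ).divisors = {1, 2, 4, 8} by decide] at this
  simp only [Finset.mem_insert, Finset.mem_singleton] at h4
  refine ⟨fun h3 => ?_, fun h7 s hs => ?_⟩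
  · subst h3
    have h2 : Nat.card F = 2 := by
      rw [Nat.ModEq] at hmod; omega
    obtain ⟨u, v, huv, huniv⟩ := Nat.card_eq_two_iff.1 h2
    have key : ∃ t : F, (t : P) ≠ 1 ∧ ∀ s : F, s = 1 ∨ s = t := by
      have hm : ∀ s : F, s = u ∨ s = v := fun s => by
        have : s ∈ ({u, v} : Set F) := huniv ▸ Set.mem_univ s
        simpa using this
      rcases hm 1 with h | h
      · exact ⟨v, fun e => huv (h.symm.trans (Subtype.ext e.symm)), fun s => by
          rcases hm s with e | e <;> [exact Or.inl (e.trans h.symm); exact Or.inr e]⟩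
      · exact ⟨u, fun e => huv ((Subtype.ext e : u = 1).trans h), fun s => by
          rcases hm s with e | e <;> [exact Or.inr e; exact Or.inl (e.trans h.symm)]⟩
    obtain ⟨t, ht, hall⟩ := key
    refine ⟨t, ht, (hmem _).1 t.2, fun s hs => ?_⟩
    rcases hall ⟨s, (hmem s).2 hs⟩ with e | e
    · exact Or.inl (congrArg Subtype.val e)
    · exact Or.inr (congrArg Subtype.val e)
  · subst h7
    have h1 : Nat.card F = 1 := by
      rw [Nat.ModEq] at hmod; omega
    exact mem_bot.1 (card_eq_one.1 h1 ▸ (hmem s).2 hs)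

/-- In a simple group, no nontrivial element of an abelian Sylow 2-subgroup is centralised by the
normaliser. -/
theorem eq_one_of_fixed [IsSimpleGroup G] (hna : ¬ IsMulCommutative G) (S : Sylow 2 G)
    (hS : IsMulCommutative (S : Subgroup G)) {s : G} (hs : s ∈ (S : Subgroup G))
    (hfix : ∀ n ∈ normalizer ((S : Subgroup G) : Set G), n * s * n⁻¹ = s) : s = 1 := by
  have := hS
  set f : G →* (S : Subgroup G) := MonoidHom.transfer (MonoidHom.id (S : Subgroup G)) with hf
  have hker : f.ker = ⊤ := by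
    rcases f.normal_ker.eq_bot_or_eq_top with h | h
    · exact absurd (isMulCommutative_iff.2 fun a b => (MonoidHom.ker_eq_bot_iff f).1 h (by
        rw [map_mul, map_mul]; exact mul_comm' _ _)) hna
    · exact h
  have key : ∀ (k : ℕ) (g₀ : G), g₀⁻¹ * s ^ k * g₀ ∈ (S : Subgroup G) →
      g₀⁻¹ * s ^ k * g₀ = s ^ k := by
    intro k g₀ hk
    obtain ⟨n, hn, he⟩ := Sylow.conj_eq_normalizer_conj_of_mem S (s ^ k) g₀ (pow_mem hs k) hk
    rw [he]
    have h := hfix n⁻¹ (inv_mem hn)
    rw [inv_inv] at h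
    have h' := congrArg (· ^ k) h
    rwa [show (n⁻¹ * s * n) ^ k = n⁻¹ * s ^ k * n by
      simpa using conj_pow (a := n⁻¹) (b := s) (i := k)] at h'
  have h1 : f s = 1 := MonoidHom.mem_ker.1 (hker ▸ mem_top s)
  rw [hf, MonoidHom.transfer_eq_pow (MonoidHom.id (S : Subgroup G)) s key] at h1
  have h2 : s ^ (S : Subgroup G).index = 1 := congrArg Subtype.val h1
  have hcop : (2 : ℕ).Coprime (S : Subgroup G).index :=
    Nat.prime_two.coprime_iff_not_dvd.2 S.not_dvd_index
  obtain ⟨k, hk⟩ := S.isPGroup' ⟨s, hs⟩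
  have h3 : s ^ 2 ^ k = 1 := congrArg Subtype.val hk
  have h4 := pow_gcd_eq_one.2 ⟨h3, h2⟩
  rwa [Nat.Coprime.gcd_eq_one (hcop.pow_left k), pow_one] at h4

/-- Either the automiser has order 7, or there is an element of order 3 modulo `C(S)` generating
the automiser's stabiliser of an involution, all involutions of `S` being conjugate. -/
theorem automizer_cases [IsSimpleGroup G] (hna : ¬ IsMulCommutative G) (S : Sylow 2 G)
    (hel : Cfsg.IsElementaryAbelian 2 (S : Subgroup G)) (h8 : Nat.card (S : Subgroup G) = 8) :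
    (centralizer ((S : Subgroup G) : Set G)).relIndex (normalizer ((S : Subgroup G) : Set G)) = 7 ∨
    ∃ t x : G, t ∈ (S : Subgroup G) ∧ orderOf t = 2 ∧ Commute x t ∧
      x ∈ normalizer ((S : Subgroup G) : Set G) ∧ Odd (orderOf x) ∧
      x ∉ centralizer ((S : Subgroup G) : Set G) ∧ x ^ 3 ∈ centralizer ((S : Subgroup G) : Set G) ∧
      (∀ s ∈ (S : Subgroup G), x * s * x⁻¹ = s → s = 1 ∨ s = t) ∧
      (∀ n ∈ normalizer ((S : Subgroup G) : Set G), Commute n t →
        ∃ k : ℕ, (x ^ k)⁻¹ * n ∈ centralizer ((S : Subgroup G) : Set G)) ∧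
      ∀ s ∈ (S : Subgroup G), s ≠ 1 → IsConj t s := by
  classical
  obtain ⟨hcom, hexp⟩ := hel
  have := hcom
  set N := normalizer ((S : Subgroup G) : Set G) with hN
  set φ := (S : Subgroup G).normalizerMonoidHom with hφ
  have hφapp : ∀ (n : N) (s : (S : Subgroup G)), ((φ n) s : G) = n * s * (n : G)⁻¹ := fun _ _ => rfl
  have hφker : ∀ n : N, φ n = 1 ↔ (n : G) ∈ centralizer ((S : Subgroup G) : Set G) := fun n => by
    rw [← MonoidHom.mem_ker, hφ, normalizerMonoidHom_ker, mem_subgroupOf]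
  have hr : (centralizer ((S : Subgroup G) : Set G)).relIndex N = Nat.card φ.range := by
    rw [← index_ker, hφ, normalizerMonoidHom_ker]; rfl
  set r := (centralizer ((S : Subgroup G) : Set G)).relIndex N with hrdef
  have h168 : Nat.card φ.range ∣ 168 := by
    refine (card_subgroup_dvd_card φ.range).trans ?_
    have hbot : frattini (S : Subgroup G) = ⊥ := by
      have hp : IsPGroup 2 (S : Subgroup G) := S.isPGroup'
      rw [eq_bot_iff]
      intro a ha
      by_contra hne
      obtain ⟨K, hK, haK⟩ : ∃ K : Subgroup (S : Subgroup G), IsCoatom K ∧ a ∉ K := by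
        obtain ⟨K, -, ⟨hKa⟩, hKmax⟩ := (Set.toFinite {K : Subgroup (S : Subgroup G) |
          a ∉ K ∧ True}).exists_le_maximal (show (⊥ : Subgroup (S : Subgroup G)) ∈ _ from
            ⟨fun h => hne h, trivial⟩)
        refine ⟨K, ⟨fun h => hKa (h ▸ mem_top a), fun L hL => ?_⟩, hKa⟩
        by_contra hLt
        obtain ⟨b, hb⟩ : ∃ b, b ∉ L := by
          by_contra! h; exact hLt (eq_top_iff.2 fun z _ => h z)
        have hb1 : ∀ M : Subgroup (S : Subgroup G), K < M → a ∈ M := fun M hM => by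
          by_contra h; exact hM.not_ge (hKmax ⟨h, trivial⟩ hM.le)
        have haL := hb1 L hL
        have hsq : ∀ c : (S : Subgroup G), c * c = 1 := fun c => Subtype.ext (by
          rw [coe_mul, ← sq]; exact hexp c c.2)
        have hlt : K < K ⊔ zpowers b := le_sup_left.lt_of_ne fun h =>
          hb (hL.le (h ▸ mem_sup_right (mem_zpowers b)))
        obtain ⟨k, hk, z, hz, he⟩ := mem_sup.1 (hb1 _ hlt)
        obtain ⟨i, rfl⟩ := mem_zpowers_iff.1 hz
        rcases Int.even_or_odd i with ⟨j, rfl⟩ | ⟨j, rfl⟩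
        · refine hKa ?_
          rw [← he, zpow_add, ← mul_zpow, hsq, one_zpow, mul_one]; exact hk
        · refine hb ?_
          have e : b = k⁻¹ * a := by
            rw [← he, zpow_add, two_mul, zpow_add, ← mul_zpow, hsq, one_zpow, one_mul, zpow_one,
              inv_mul_cancel_left]
          rw [e]; exact mul_mem (inv_mem (hL.le hk)) haL
      exact haK (frattini_le_coatom hK ha)
    have hidx : (frattini (S : Subgroup G)).index = 2 ^ 3 := by
      rw [hbot, index_bot, h8]; norm_num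
    exact (FGS.card_mulAut_dvd (P := (S : Subgroup G)) (p := 2) (n := 3) (r := 3)
      (by rw [h8]; norm_num) hidx).trans (by decide)
  have hodd : ¬ 2 ∣ r := by
    intro h
    refine S.not_dvd_index (h.trans ?_)
    refine (relIndex_dvd_of_le_left N (?_ : (S : Subgroup G) ≤ _)).trans
      (relIndex_dvd_index_of_le le_normalizer)
    exact fun a ha => mem_centralizer_iff.2 fun b hb =>
      congrArg Subtype.val (mul_comm' (⟨b, hb⟩ : (S : Subgroup G)) ⟨a, ha⟩)
  have hcases : r = 1 ∨ r = 3 ∨ r = 7 ∨ r = 21 := by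
    have hmem := Nat.mem_divisors.2 ⟨hr ▸ h168, by norm_num⟩
    rw [show (168 : ℕ).divisors = {1, 2, 3, 4, 6, 7, 8, 12, 14, 21, 24, 28, 42, 56, 84, 168} by
      decide] at hmem
    simp only [Finset.mem_insert, Finset.mem_singleton] at hmem
    omega
  have hfixfree : ∀ s : (S : Subgroup G), (∀ n : N, φ n s = s) → s = 1 := fun s h =>
    Subtype.ext (eq_one_of_fixed hna S hcom s.2 fun n hn => by
      have := congrArg Subtype.val (h ⟨n, hn⟩)
      rwa [hφapp] at this)
  have h3 : 3 ∣ r → ∃ α : MulAut (S : Subgroup G), α ∈ φ.range ∧ α ^ 3 = 1 ∧ α ≠ 1 := by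
    intro h
    have : Fact (Nat.Prime 3) := ⟨Nat.prime_three⟩
    obtain ⟨a, ha⟩ := exists_prime_orderOf_dvd_card' 3 (hr ▸ h)
    refine ⟨a, a.2, ?_, fun e => ?_⟩
    · rw [← SubmonoidClass.coe_pow, ← ha, pow_orderOf_eq_one]; rfl
    · rw [(Subtype.ext e : a = 1), orderOf_one] at ha; omega
  rcases hcases with h1 | h1 | h1 | h1
  · exfalso
    have hall : ∀ n : N, φ n = 1 := fun n => by
      have hb : φ.range = ⊥ := card_eq_one.1 (hr ▸ h1)
      exact mem_bot.1 (hb ▸ MonoidHom.mem_range.2 ⟨n, rfl⟩)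
    have hs : ∀ s : (S : Subgroup G), s = 1 := fun s => hfixfree s fun n => by rw [hall n]; rfl
    have : Subsingleton (S : Subgroup G) := ⟨fun a b => (hs a).trans (hs b).symm⟩
    rw [Nat.card_of_subsingleton (1 : (S : Subgroup G))] at h8
    omega
  · exfalso
    obtain ⟨α, hαr, hα3, hα1⟩ := h3 ⟨1, by omega⟩
    have : Fact (Nat.Prime 3) := ⟨Nat.prime_three⟩
    obtain ⟨t, ht1, htα, -⟩ := (fixed_count h8 (Or.inl rfl) α hα3 hα1).1 rfl
    refine ht1 (hfixfree t fun n => ?_)
    have hgen : φ.range = zpowers α := by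
      refine (eq_of_le_of_card_ge (zpowers_le.2 hαr) ?_).symm
      rw [← hr, h1, Nat.card_zpowers, orderOf_eq_prime hα3 hα1]
    obtain ⟨i, hi⟩ := mem_zpowers_iff.1 (hgen ▸ MonoidHom.mem_range.2 ⟨n, rfl⟩)
    rw [← hi]
    exact zpow_mem (show α ∈ MulAction.stabilizer (MulAut (S : Subgroup G)) t from htα) i
  · exact Or.inl h1
  right
  have f3 : Fact (Nat.Prime 3) := ⟨Nat.prime_three⟩
  have f7 : Fact (Nat.Prime 7) := ⟨by norm_num⟩
  obtain ⟨α, hαr, hα3, hα1⟩ := h3 (h1 ▸ ⟨7, rfl⟩)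
  obtain ⟨β, hβ⟩ := exists_prime_orderOf_dvd_card' (G := φ.range) 7 (by rw [← hr, h1]; norm_num)
  have hβo : orderOf (β : MulAut (S : Subgroup G)) = 7 := (orderOf_coe β).trans hβ
  have hβne : ∀ k : ℕ, k < 7 → k ≠ 0 → (β : MulAut (S : Subgroup G)) ^ k ≠ 1 := fun k hk hk0 h => by
    have := orderOf_dvd_of_pow_eq_one h
    rw [hβo] at this
    exact absurd (Nat.le_of_dvd (Nat.pos_of_ne_zero hk0) this) (by omega)
  obtain ⟨t, ht1, htα, htfix⟩ := (fixed_count h8 (Or.inl rfl) α hα3 hα1).1 rfl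
  have hβfree : ∀ k : ℕ, k < 7 → k ≠ 0 → ((β : MulAut (S : Subgroup G)) ^ k) t ≠ t := fun k hk hk0 h =>
    ht1 ((fixed_count h8 (Or.inr rfl) _ (by
      rw [← pow_mul, mul_comm, pow_mul, ← hβo, pow_orderOf_eq_one, one_pow]) (hβne k hk hk0)).2
      rfl t h)
  have hinj : Function.Injective fun i : Fin 7 => ((β : MulAut (S : Subgroup G)) ^ (i : ℕ)) t := by
    intro i j hij
    by_contra hne
    have key : ∀ i j : Fin 7, (i : ℕ) < j →
        ((β : MulAut (S : Subgroup G)) ^ (i : ℕ)) t ≠ ((β : MulAut (S : Subgroup G)) ^ (j : ℕ)) t := by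
      intro i j hlt h
      refine hβfree (j - i) (by omega) (by omega) ?_
      rw [show (j : ℕ) = i + ((j : ℕ) - i) by omega, pow_add, MulAut.mul_apply] at h
      exact ((β : MulAut (S : Subgroup G)) ^ (i : ℕ)).injective h.symm
    rcases Nat.lt_or_gt_of_ne (fun h => hne (Fin.ext h)) with h | h
    · exact key i j h hij
    · exact key j i h hij.symm
  have hsurj : ∀ s : (S : Subgroup G), s ≠ 1 → ∃ i : Fin 7, ((β : MulAut (S : Subgroup G)) ^ (i : ℕ)) t = s := by
    intro s hs
    have : Fintype (S : Subgroup G) := Fintype.ofFinite _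
    have himg : Finset.univ.image (fun i : Fin 7 => ((β : MulAut (S : Subgroup G)) ^ (i : ℕ)) t) =
        Finset.univ.erase 1 := by
      refine Finset.eq_of_subset_of_card_le (fun u hu => ?_) ?_
      · obtain ⟨i, -, rfl⟩ := Finset.mem_image.1 hu
        exact Finset.mem_erase.2 ⟨fun e => ht1 (by rwa [MulEquiv.map_eq_one_iff] at e),
          Finset.mem_univ _⟩
      · rw [Finset.card_image_of_injective _ hinj, Finset.card_erase_of_mem (Finset.mem_univ _),
          Finset.card_univ, Finset.card_univ, Fintype.card_fin, ← Nat.card_eq_fintype_card, h8]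
    have := himg.ge (Finset.mem_erase.2 ⟨hs, Finset.mem_univ s⟩)
    obtain ⟨i, -, hi⟩ := Finset.mem_image.1 this
    exact ⟨i, hi⟩
  -- the stabiliser of `t` in the automiser
  have hαo : orderOf α = 3 := orderOf_eq_prime hα3 hα1
  have hstab : ∀ γ ∈ φ.range, γ t = t → γ ∈ zpowers α := by
    intro γ hγ hγt
    have : Fintype φ.range := Fintype.ofFinite _
    let F : Fin 7 × Fin 3 → φ.range := fun ij =>
      ⟨(β : MulAut (S : Subgroup G)) ^ (ij.1 : ℕ) * α ^ (ij.2 : ℕ),
        mul_mem (pow_mem β.2 _) (pow_mem hαr _)⟩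
    have hαt : ∀ j : ℕ, (α ^ j) t = t := fun j =>
      pow_mem (show α ∈ MulAction.stabilizer (MulAut (S : Subgroup G)) t from htα) j
    have hF : Function.Injective F := by
      rintro ⟨i, j⟩ ⟨i', j'⟩ h
      have h' := congrArg Subtype.val h
      simp only [F] at h'
      have hi : i = i' := hinj (by
        simpa [MulAut.mul_apply, hαt] using congrArg (fun γ : MulAut (S : Subgroup G) => γ t) h')
      subst hi
      have := pow_injOn_Iio_orderOf (x := α) (by simp [hαo] : (j : ℕ) ∈ Set.Iio (orderOf α))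
        (by simp [hαo] : (j' : ℕ) ∈ Set.Iio (orderOf α)) (mul_left_cancel h')
      exact Prod.ext rfl (Fin.ext this)
    obtain ⟨⟨i, j⟩, hij⟩ := ((Fintype.bijective_iff_injective_and_card F).2 ⟨hF, by
      rw [Fintype.card_prod, Fintype.card_fin, Fintype.card_fin, ← Nat.card_eq_fintype_card, ← hr,
        h1]⟩).2 ⟨γ, hγ⟩
    have e : γ = (β : MulAut (S : Subgroup G)) ^ (i : ℕ) * α ^ (j : ℕ) :=
      (congrArg Subtype.val hij).symm
    have hi : ((β : MulAut (S : Subgroup G)) ^ (i : ℕ)) t = t := by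
      rw [e, MulAut.mul_apply, hαt] at hγt; exact hγt
    by_cases hi0 : (i : ℕ) = 0
    · rw [e, hi0, pow_zero, one_mul]; exact pow_mem (mem_zpowers α) _
    · exact absurd hi (hβfree _ i.2 hi0)
  obtain ⟨n, hn⟩ := hαr
  obtain ⟨e, m, hm, hd⟩ := Nat.exists_eq_pow_mul_and_not_dvd (orderOf_pos n).ne' 2 (by decide)
  have hcop : Nat.Coprime (orderOf α) (2 ^ e) := by rw [hαo]; exact Nat.Coprime.pow_right _ (by decide)
  obtain ⟨u, hu⟩ := exists_pow_eq_self_of_coprime hcop.symm
  have hxα : φ ((n ^ 2 ^ e) ^ u) = α := by rw [map_pow, map_pow, hn]; exact hu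
  set x : N := (n ^ 2 ^ e) ^ u with hx
  have hxodd : Odd (orderOf x) := by
    refine Odd.of_dvd_nat ?_ (orderOf_pow_dvd u)
    rw [orderOf_pow_of_dvd (by positivity) ⟨m, hd⟩, hd, Nat.mul_div_cancel_left _ (by positivity)]
    exact Nat.odd_iff.2 (by omega)
  have htt : orderOf (t : G) = 2 :=
    orderOf_eq_prime (hexp _ t.2) fun h => ht1 (Subtype.ext h)
  refine ⟨t, x, t.2, htt, ?_, x.2, ?_, ?_, ?_, ?_, ?_, ?_⟩
  · have := congrArg Subtype.val htα
    rw [← hxα, hφapp] at this
    exact mul_inv_eq_iff_eq_mul.1 this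
  · rwa [orderOf_coe]
  · exact fun h => hα1 (hxα ▸ (hφker x).2 h)
  · rw [← SubmonoidClass.coe_pow, ← hφker, map_pow, hxα, hα3]
  · intro s hs hxs
    have : α ⟨s, hs⟩ = ⟨s, hs⟩ := Subtype.ext (by rw [← hxα, hφapp]; exact hxs)
    rcases htfix _ this with e | e
    · exact Or.inl (congrArg Subtype.val e)
    · exact Or.inr (congrArg Subtype.val e)
  · intro y hy hyt
    obtain ⟨i, hi⟩ := mem_zpowers_iff.1 (hstab (φ ⟨y, hy⟩) ⟨_, rfl⟩ (Subtype.ext (by
      rw [hφapp]; exact mul_inv_eq_iff_eq_mul.2 hyt.eq)))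
    refine ⟨(i % 3).toNat, ?_⟩
    have hk : α ^ (i % 3).toNat = φ ⟨y, hy⟩ := by
      rw [← hi, ← zpow_natCast, Int.toNat_of_nonneg (Int.emod_nonneg _ (by norm_num)),
        show ((3 : ℤ)) = (orderOf α : ℤ) by rw [hαo]; rfl, zpow_mod_orderOf]
    have h1 : φ ((x ^ (i % 3).toNat)⁻¹ * ⟨y, hy⟩) = 1 := by
      rw [map_mul, map_inv, map_pow, hxα, hk, inv_mul_cancel]
    simpa using (hφker _).1 h1
  · intro s hs hs1
    obtain ⟨i, hi⟩ := hsurj ⟨s, hs⟩ fun e => hs1 (congrArg Subtype.val e)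
    obtain ⟨m', hm'⟩ := β.2
    refine isConj_iff.2 ⟨((m' ^ (i : ℕ) : N) : G), ?_⟩
    rw [← hφapp, map_pow, hm']
    exact congrArg Subtype.val hi

end Cfsg.Agent.E8Auto
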