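import Mathlib
import Cfsg.Agent.S3215
import Cfsg.Agent.Core.PCore
import Cfsg.Prelude.Def_PLocal

/-!
# A solvable involution centraliser with elementary abelian Sylow 2-subgroup of order 8
-/

set_option autoImplicit false

namespace Cfsg.Agent.E8Auto

open Subgroup
open scoped IsMulCommutative

variable {G : Type*} [Group G] [Finite G]

/-- The data read off from the centraliser. -/
structure Sect (S : Sylow 2 G) (t : G) (O M : Subgroup G) : Prop where
  le : O ≤ M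
  le_cent : M ≤ centralizer ({t} : Set G)
  conj : ∀ c ∈ centralizer ({t} : Set G), ∀ o ∈ O, c * o * c⁻¹ ∈ O
  odd : Odd (Nat.card M)
  relIndex : O.relIndex M = 3
  inner : ∀ g ∈ centralizer ({t} : Set G), ∀ v ∈ M, v ∉ O → g * v * g⁻¹ ∈ M →
    (g ∈ M ∨ g * t ∈ M) ∧ v⁻¹ * (g * v * g⁻¹) ∈ O
  cover : ∀ y ∈ centralizer ({t} : Set G), Odd (orderOf y) →
    y ∈ O ∨ ∃ s ∈ (S : Subgroup G), ∃ v ∈ M, v ∉ O ∧ y = s * v * s⁻¹
  index : Nat.card (centralizer ({t} : Set G)) = 8 * Nat.card M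
  ker : ∃ L : Subgroup G, (∀ c ∈ centralizer ({t} : Set G), ∀ l ∈ L, c * l * c⁻¹ ∈ L) ∧
    (∀ v ∈ M, v ∈ L ↔ v ∈ O) ∧ (S : Subgroup G) ≤ L ∧
    centralizer ((S : Subgroup G) : Set G) ≤ L ∧
    ∀ c ∈ centralizer ({t} : Set G), ∃ v ∈ M, v⁻¹ * c ∈ L

theorem exists_sect (S : Sylow 2 G) (hel : Cfsg.IsElementaryAbelian 2 (S : Subgroup G))
    (h8 : Nat.card (S : Subgroup G) = 8) {t x : G} (ht : t ∈ (S : Subgroup G))
    (ht2 : orderOf t = 2) (hxt : Commute x t)
    (hxN : x ∈ normalizer ((S : Subgroup G) : Set G)) (hxodd : Odd (orderOf x))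
    (hxC : x ∉ centralizer ((S : Subgroup G) : Set G))
    (hx3 : x ^ 3 ∈ centralizer ((S : Subgroup G) : Set G))
    (hfix : ∀ s ∈ (S : Subgroup G), x * s * x⁻¹ = s → s = 1 ∨ s = t)
    (hgen : ∀ n ∈ normalizer ((S : Subgroup G) : Set G), Commute n t →
      ∃ k : ℕ, (x ^ k)⁻¹ * n ∈ centralizer ((S : Subgroup G) : Set G))
    (hsolv : Group.IsSolvable (centralizer ({t} : Set G))) :
    ∃ O M : Subgroup G, Sect S t O M := by
  classical
  obtain ⟨hcom, hexp⟩ := hel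
  have := hcom
  have f2 : Fact (Nat.Prime 2) := ⟨Nat.prime_two⟩
  set C := centralizer ({t} : Set G) with hC
  have hmemC : ∀ c, c ∈ C ↔ Commute c t := fun c => by
    rw [hC, mem_centralizer_singleton_iff]; exact Iff.rfl
  have hscomm : ∀ a ∈ (S : Subgroup G), ∀ b ∈ (S : Subgroup G), a * b = b * a := fun a ha b hb =>
    congrArg Subtype.val (mul_comm' (⟨a, ha⟩ : (S : Subgroup G)) ⟨b, hb⟩)
  have hSC : (S : Subgroup G) ≤ C := fun s hs => (hmemC s).2 (hscomm s hs t ht)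
  have hxC' : x ∈ C := (hmemC x).2 hxt
  set O := (Cfsg.oddCore C).map C.subtype with hO
  have hOn : (Cfsg.oddCore C).Normal := Core.pPrimeCore_normal
  have hOconj : ∀ c ∈ C, ∀ o ∈ O, c * o * c⁻¹ ∈ O := by
    rintro c hc _ ⟨o, ho, rfl⟩
    exact ⟨⟨c, hc⟩ * o * ⟨c, hc⟩⁻¹, hOn.conj_mem o ho _, rfl⟩
  have hOC : O ≤ C := map_subtype_le _
  have hOcop : Nat.Coprime (Nat.card O) 2 := by
    rw [hO, card_map_of_injective C.subtype_injective]; exact Core.coprime_card_pPrimeCore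
  have hOodd : Odd (Nat.card O) := (Nat.coprime_two_right).1 hOcop
  have hOS : ∀ z ∈ O, z ∈ (S : Subgroup G) → z = 1 := fun z hzO hzS => by
    have h1 : orderOf z ∣ Nat.card O := orderOf_mk z hzO ▸ orderOf_dvd_natCard (⟨z, hzO⟩ : O)
    have h2 : orderOf z ∣ 2 := orderOf_dvd_of_pow_eq_one (hexp z hzS)
    exact orderOf_eq_one_iff.1 (Nat.eq_one_of_dvd_one (hOcop ▸ Nat.dvd_gcd h1 h2))
  -- the quotient by the odd core has normal Sylow 2-subgroup
  set f := QuotientGroup.mk' (Cfsg.oddCore C) with hf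
  have hfs : Function.Surjective f := QuotientGroup.mk'_surjective _
  let SC : Sylow 2 C := S.subtype hSC
  have hSC' : ∀ c : C, c ∈ (SC : Subgroup C) ↔ (c : G) ∈ (S : Subgroup G) := fun c => Iff.rfl
  set U := Cfsg.pCore 2 (C ⧸ Cfsg.oddCore C) with hU
  have hUcent : centralizer (U : Set (C ⧸ Cfsg.oddCore C)) ≤ U :=
    S3215.centralizer_pCore_le Core.pPrimeCore_quotient_eq_bot
  have hSbar : ((SC : Subgroup C).map f) ≤ U := by
    refine le_trans (fun a ha => ?_) hUcent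
    have hUle : U ≤ (SC : Subgroup C).map f := Core.pCore_le_sylow (SC.mapSurjective hfs)
    obtain ⟨a, haS, rfl⟩ := ha
    refine mem_centralizer_iff.2 fun b hb => ?_
    obtain ⟨b, hbS, rfl⟩ := hUle hb
    rw [← map_mul, ← map_mul]
    exact congrArg f (Subtype.ext (hscomm b hbS a haS))
  have hUle : U ≤ (SC : Subgroup C).map f := Core.pCore_le_sylow (SC.mapSurjective hfs)
  have hUeq : (SC : Subgroup C).map f = U := le_antisymm hSbar hUle
  have hUn : U.Normal := Core.pCore_normal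
  have hUcomap : (U.comap f).Normal := hUn.comap f
  set L := (U.comap f).map C.subtype with hL
  have hSL : (S : Subgroup G) ≤ L := fun s hs =>
    ⟨⟨s, hSC hs⟩, mem_comap.2 (hSbar ⟨_, (hSC' ⟨s, hSC hs⟩).2 hs, rfl⟩), rfl⟩
  have hLdec : ∀ l ∈ L, ∃ o ∈ O, ∃ s ∈ (S : Subgroup G), l = o * s := by
    rintro _ ⟨l, hl, rfl⟩
    obtain ⟨s, hs, e⟩ := (hUeq.ge (mem_comap.1 hl) : f l ∈ (SC : Subgroup C).map f)
    refine ⟨C.subtype (l * s⁻¹), ⟨_, ?_, rfl⟩, (s : G), hs, ?_⟩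
    · rw [SetLike.mem_coe, ← QuotientGroup.eq_one_iff]
      show f (l * s⁻¹) = 1
      rw [map_mul, map_inv, e, mul_inv_cancel]
    · simp
  have hLodd : ∀ l ∈ L, Odd (orderOf l) → l ∈ O := by
    intro l hl hodd
    obtain ⟨o, ho, s, hs, rfl⟩ := hLdec l hl
    obtain ⟨l', hl', e⟩ := hl
    have h1 : f l' ^ 2 = 1 := by
      obtain ⟨u, hu, eu⟩ := (hUeq.ge (mem_comap.1 hl') : f l' ∈ (SC : Subgroup C).map f)
      rw [← eu, ← map_pow, show u ^ 2 = 1 from Subtype.ext (hexp _ hu), map_one]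
    have h2 : f l' ^ orderOf (o * s) = 1 := by
      rw [← map_pow, show l' ^ orderOf (o * s) = 1 from Subtype.ext (by
        rw [SubmonoidClass.coe_pow, show (l' : G) = o * s from e, pow_orderOf_eq_one]; rfl), map_one]
    obtain ⟨m, hm⟩ := hodd
    rw [hm, pow_succ, pow_mul, h1, one_pow, one_mul] at h2
    exact ⟨l', (QuotientGroup.eq_one_iff _).1 h2, e⟩
  have hCSL : centralizer ((S : Subgroup G) : Set G) ≤ L := by
    intro z hz
    have hzC : z ∈ C := (hmemC z).2 (mem_centralizer_iff.1 hz t ht).symm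
    refine ⟨⟨z, hzC⟩, mem_comap.2 (hUcent (mem_centralizer_iff.2 fun b hb => ?_)), rfl⟩
    obtain ⟨b, hbS, rfl⟩ := hUle hb
    rw [← map_mul, ← map_mul]
    exact congrArg f (Subtype.ext (mem_centralizer_iff.1 hz b hbS))
  -- `C = O S ⟨x⟩`
  have hdec : ∀ c ∈ C, ∃ o ∈ O, ∃ s ∈ (S : Subgroup G), ∃ k : ℕ, c = o * s * x ^ k := by
    intro c hc
    have hle : ((MulAut.conj (⟨c, hc⟩ : C) • SC : Sylow 2 C) : Subgroup C) ≤ U.comap f := by
      rintro _ ⟨s, hs, rfl⟩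
      exact hUcomap.conj_mem _ (mem_comap.2 (hSbar ⟨s, hs, rfl⟩)) _
    have hle' : (SC : Subgroup C) ≤ U.comap f := fun s hs => mem_comap.2 (hSbar ⟨s, hs, rfl⟩)
    obtain ⟨l, hl⟩ := MulAction.exists_smul_eq (U.comap f) (SC.subtype hle')
      ((MulAut.conj (⟨c, hc⟩ : C) • SC).subtype hle)
    have hn : (((l : C) : G))⁻¹ * c ∈ normalizer ((S : Subgroup G) : Set G) := by
      have key : ∀ s ∈ (S : Subgroup G),
          (((l : C) : G))⁻¹ * c * s * ((((l : C) : G))⁻¹ * c)⁻¹ ∈ (S : Subgroup G) := by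
        intro s hs
        set b : C := (⟨c, hc⟩ : C) * ⟨s, hSC hs⟩ * (⟨c, hc⟩ : C)⁻¹ with hb
        have hbM : b ∈ ((MulAut.conj (⟨c, hc⟩ : C) • SC : Sylow 2 C) : Subgroup C) :=
          ⟨⟨s, hSC hs⟩, hs, rfl⟩
        have hb' : (⟨b, hle hbM⟩ : U.comap f) ∈
            (((MulAut.conj (⟨c, hc⟩ : C) • SC).subtype hle : Sylow 2 (U.comap f)) :
              Subgroup (U.comap f)) := hbM
        rw [← hl] at hb'
        obtain ⟨a, ha, e⟩ := hb'
        have e' := congrArg (fun z : U.comap f => ((z : C) : G)) e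
        simp only [MulDistribMulAction.toMonoidEnd_apply, MulDistribMulAction.toMonoidHom_apply,
          MulAut.smul_def, MulAut.conj_apply, Subgroup.coe_mul, Subgroup.coe_inv, hb] at e'
        have e2 : (((l : C) : G))⁻¹ * c * s * ((((l : C) : G))⁻¹ * c)⁻¹ = ((a : C) : G) := by
          calc _ = (((l : C) : G))⁻¹ * (c * s * c⁻¹) * ((l : C) : G) := by group
            _ = _ := by rw [← e']; group
        rw [e2]
        exact ha
      refine Subgroup.mem_normalizer_fintype ?_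
      exact key
    have hlL : ((l : C) : G) ∈ L := ⟨l, l.2, rfl⟩
    have hlC : ((l : C) : G) ∈ C := (l : C).2
    obtain ⟨k, hk⟩ := hgen _ hn ((hmemC _).1 (mul_mem (inv_mem hlC) hc))
    have hz : x ^ k * ((x ^ k)⁻¹ * ((((l : C) : G))⁻¹ * c)) * (x ^ k)⁻¹ ∈ L := by
      obtain ⟨z', hz', ez⟩ := hCSL hk
      refine ⟨(⟨x, hxC'⟩ : C) ^ k * z' * ((⟨x, hxC'⟩ : C) ^ k)⁻¹,
        hUcomap.conj_mem z' hz' _, ?_⟩
      rw [map_mul, map_mul, map_inv, ez, map_pow]
      rfl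
    obtain ⟨o, ho, s, hs, e⟩ := hLdec _ (mul_mem hlL hz)
    refine ⟨o, ho, s, hs, k, ?_⟩
    rw [← e]
    group
  have hx3O : x ^ 3 ∈ O := hLodd _ (hCSL hx3) (hxodd.of_dvd_nat (orderOf_pow_dvd 3))
  have hxO : x ∉ O := fun h => hxC (mem_centralizer_iff.2 fun s hs => by
    have h1 : s * x * s⁻¹ * x⁻¹ ∈ (S : Subgroup G) := by
      have := mul_mem hs ((mem_normalizer_iff.1 hxN _).1 (inv_mem hs))
      simpa [mul_assoc] using this
    have h2 : s * x * s⁻¹ * x⁻¹ ∈ O := mul_mem (hOconj s (hSC hs) x h) (inv_mem h)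
    exact mul_inv_eq_iff_eq_mul.1 (mul_inv_eq_one.1 (hOS _ h2 h1)))
  set M := O ⊔ zpowers x with hM
  have hxn : zpowers x ≤ normalizer (O : Set G) := zpowers_le.2
    (Subgroup.mem_normalizer_fintype fun o ho => hOconj x hxC' o ho)
  have hMmem : ∀ v, v ∈ M ↔ ∃ o ∈ O, ∃ k : ℕ, v = o * x ^ k := by
    intro v
    constructor
    · intro hv
      rw [hM, ← SetLike.mem_coe, coe_mul_of_right_le_normalizer_left O _ hxn] at hv
      obtain ⟨o, ho, z, hz, rfl⟩ := hv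
      obtain ⟨k, rfl⟩ := (mem_powers_iff_mem_zpowers).2 hz
      exact ⟨o, ho, k, rfl⟩
    · rintro ⟨o, ho, k, rfl⟩
      exact mul_mem_sup ho (pow_mem (mem_zpowers x) k)
  have hMC : M ≤ C := sup_le hOC (zpowers_le.2 hxC')
  have hred : ∀ k : ℕ, ∃ o ∈ O, x ^ k = o * x ^ (k % 3) := fun k =>
    ⟨(x ^ 3) ^ (k / 3), pow_mem hx3O _, by rw [← pow_mul, ← pow_add, Nat.div_add_mod]⟩
  have hpowO : ∀ k : ℕ, x ^ k ∈ O ↔ 3 ∣ k := by
    intro k
    refine ⟨fun h => ?_, fun ⟨j, hj⟩ => hj ▸ (pow_mul x 3 j).symm ▸ pow_mem hx3O j⟩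
    by_contra h3
    obtain ⟨o, ho, e⟩ := hred k
    rw [e, mul_mem_cancel_left ho] at h
    rcases (show k % 3 = 1 ∨ k % 3 = 2 by omega) with h1 | h1
    · exact hxO (by simpa [h1] using h)
    · rw [h1] at h
      have := mul_mem (inv_mem h) hx3O
      exact hxO (by simpa [pow_succ, mul_assoc] using this)
  have hMcard : Nat.card M = 3 * Nat.card O := by
    have hb : Function.Bijective (fun p : O × Fin 3 =>
        (⟨p.1 * x ^ (p.2 : ℕ), (hMmem _).2 ⟨p.1, p.1.2, p.2, rfl⟩⟩ : M)) := by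
      refine ⟨fun p q h => ?_, fun v => ?_⟩
      · have h' : (p.1 : G) * x ^ (p.2 : ℕ) = q.1 * x ^ (q.2 : ℕ) := congrArg Subtype.val h
        have key : ∀ i j : Fin 3, ∀ a b : O, (a : G) * x ^ (i : ℕ) = b * x ^ (j : ℕ) →
            (j : ℕ) ≤ i → i = j := by
          intro i j a b e hle
          have e1 : x ^ ((i : ℕ) - j) = (a : G)⁻¹ * b := by
            rw [eq_inv_mul_iff_mul_eq]
            refine mul_right_cancel (b := x ^ (j : ℕ)) ?_
            rw [mul_assoc, ← pow_add, Nat.sub_add_cancel hle, e]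
          have hd := (hpowO _).1 (e1 ▸ mul_mem (inv_mem a.2) b.2)
          exact Fin.ext (by omega)
        have hij : p.2 = q.2 := by
          rcases Nat.le_total (q.2 : ℕ) p.2 with hle | hle
          · exact key _ _ _ _ h' hle
          · exact (key _ _ _ _ h'.symm hle).symm
        refine Prod.ext (Subtype.ext ?_) hij
        rw [hij] at h'
        exact mul_right_cancel h'
      · obtain ⟨o, ho, k, e⟩ := (hMmem v).1 v.2
        obtain ⟨o', ho', e'⟩ := hred k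
        refine ⟨(⟨o * o', mul_mem ho ho'⟩, ⟨k % 3, Nat.mod_lt _ (by norm_num)⟩), Subtype.ext ?_⟩
        show o * o' * x ^ (k % 3) = (v : G)
        rw [e, mul_assoc, ← e']
    rw [← Nat.card_congr (Equiv.ofBijective _ hb), Nat.card_prod, Nat.card_fin, mul_comm]
  have hrel : O.relIndex M = 3 := by
    have := card_mul_index (O.subgroupOf M)
    rw [Nat.card_congr (Subgroup.subgroupOfEquivOfLe (le_sup_left : O ≤ M)).toEquiv, hMcard,
      mul_comm 3] at this
    exact Nat.eq_of_mul_eq_mul_left Nat.card_pos this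
  have hModd : Odd (Nat.card M) := hMcard ▸ Nat.odd_mul.2 ⟨by decide, hOodd⟩
  have hMS : ∀ z ∈ M, z ∈ (S : Subgroup G) → z = 1 := fun z hzM hzS => by
    have h1 : orderOf z ∣ Nat.card M := orderOf_mk z hzM ▸ orderOf_dvd_natCard (⟨z, hzM⟩ : M)
    have h2 : orderOf z ∣ 2 := orderOf_dvd_of_pow_eq_one (hexp z hzS)
    exact orderOf_eq_one_iff.1 (Nat.eq_one_of_dvd_one
      ((Nat.coprime_two_right.2 hModd) ▸ Nat.dvd_gcd h1 h2))
  have hfixk : ∀ k : ℕ, ¬ 3 ∣ k → ∀ s ∈ (S : Subgroup G), Commute (x ^ k) s → s = 1 ∨ s = t := by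
    intro k hk s hs hc
    refine hfix s hs (mul_inv_eq_iff_eq_mul.2 (?_ : Commute x s).eq)
    have h3 : Commute (x ^ 3) s := (mem_centralizer_iff.1 hx3 s hs).symm
    rcases (show k % 3 = 1 ∨ k % 3 = 2 by omega) with h1 | h1
    · have := hc.mul_left (h3.pow_left (k / 3)).inv_left
      have e : x ^ k * ((x ^ 3) ^ (k / 3))⁻¹ = x := by
        rw [← pow_mul, mul_inv_eq_iff_eq_mul, ← pow_succ']
        congr 1; omega
      rwa [e] at this
    · have := (h3.pow_left (k / 3 + 1)).mul_left hc.inv_left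
      have e : (x ^ 3) ^ (k / 3 + 1) * (x ^ k)⁻¹ = x := by
        rw [← pow_mul, mul_inv_eq_iff_eq_mul, ← pow_succ']
        congr 1; omega
      rwa [e] at this
  refine ⟨O, M, le_sup_left, hMC, hOconj, hModd, hrel, ?_, ?_, ?_, ?_⟩
  · intro g hg v hv hvO hgv
    obtain ⟨o, ho, j, rfl⟩ := (hMmem v).1 hv
    have hj : ¬ 3 ∣ j := fun h => hvO (mul_mem ho ((hpowO j).2 h))
    obtain ⟨o₁, ho₁, s, hs, k, rfl⟩ := hdec g hg
    have hxkC : x ^ k ∈ C := pow_mem hxC' k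
    set o₂ := x ^ k * o * (x ^ k)⁻¹ with ho₂def
    have ho₂ : o₂ ∈ O := hOconj _ hxkC o ho
    set o₃ := s * o₂ * s⁻¹ with ho₃def
    have ho₃ : o₃ ∈ O := hOconj _ (hSC hs) o₂ ho₂
    have e : o₁ * s * x ^ k * (o * x ^ j) * (o₁ * s * x ^ k)⁻¹ =
        o₁ * o₃ * (s * x ^ j * s⁻¹) * o₁⁻¹ := by
      rw [ho₃def, ho₂def]
      have hxx : x ^ k * x ^ j * (x ^ k)⁻¹ = x ^ j := by
        rw [← pow_add, add_comm, pow_add, mul_inv_cancel_right]
      calc _ = o₁ * (s * (x ^ k * o * (x ^ k)⁻¹) * s⁻¹) * (s * (x ^ k * x ^ j * (x ^ k)⁻¹) * s⁻¹) * o₁⁻¹ := by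
            group
        _ = _ := by rw [hxx]
    rw [e] at hgv
    have hsx : s * x ^ j * s⁻¹ ∈ M := by
      have := mul_mem (mul_mem (inv_mem (mem_sup_left (T := zpowers x) (mul_mem ho₁ ho₃))) hgv)
        (mem_sup_left (T := zpowers x) ho₁)
      simpa [hM, mul_assoc] using this
    have hcm : s * x ^ j * s⁻¹ * (x ^ j)⁻¹ = 1 := by
      refine hMS _ (mul_mem hsx (inv_mem ((hMmem _).2 ⟨1, one_mem O, j, (one_mul _).symm⟩))) ?_
      have := mul_mem hs ((mem_normalizer_iff.1 (pow_mem hxN j) _).1 (inv_mem hs))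
      simpa [mul_assoc] using this
    have hsj : s * x ^ j * s⁻¹ = x ^ j := mul_inv_eq_one.1 hcm
    have hst := hfixk j hj s hs (mul_inv_eq_iff_eq_mul.1 hsj).symm
    refine ⟨?_, ?_⟩
    · have hmem : o₁ * x ^ k ∈ M := (hMmem _).2 ⟨o₁, ho₁, k, rfl⟩
      rcases hst with rfl | rfl
      · exact Or.inl (by simpa using hmem)
      · right
        have e2 : o₁ * s * x ^ k * s = o₁ * x ^ k := by
          rw [mul_assoc, ((hxt.pow_left k).eq), ← mul_assoc, mul_assoc o₁ s s, ← sq, hexp s hs,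
            mul_one]
        rwa [e2]
    · rw [e, hsj]
      have h1 : x ^ j * o₁⁻¹ * (x ^ j)⁻¹ ∈ O := hOconj _ (pow_mem hxC' j) _ (inv_mem ho₁)
      have h2 := mul_mem (mul_mem (inv_mem ho) (mul_mem ho₁ ho₃)) h1
      have h3 := hOconj _ (inv_mem (pow_mem hxC' j)) _ h2
      convert h3 using 1
      group
  · intro y hy hyodd
    obtain ⟨o, ho, s, hs, k, rfl⟩ := hdec y hy
    by_cases hk : 3 ∣ k
    · left
      refine hLodd _ ?_ hyodd
      have hxL : x ^ k ∈ L := by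
        obtain ⟨j, rfl⟩ := hk
        rw [pow_mul]; exact pow_mem (hCSL hx3) j
      have hoL : o ∈ L := by
        obtain ⟨o', ho', e⟩ := ho
        refine ⟨o', mem_comap.2 ?_, e⟩
        rw [show f o' = 1 from (QuotientGroup.eq_one_iff o').2 ho']; exact one_mem U
      exact mul_mem (mul_mem hoL (hSL hs)) hxL
    right
    set s1 := x ^ k * s * (x ^ k)⁻¹ with hs1
    have hs1S : s1 ∈ (S : Subgroup G) := (mem_normalizer_iff.1 (pow_mem hxN k) s).1 hs
    set s2 := x ^ k * s1 * (x ^ k)⁻¹ with hs2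
    have hs2S : s2 ∈ (S : Subgroup G) := (mem_normalizer_iff.1 (pow_mem hxN k) s1).1 hs1S
    have hx3k : (x ^ k) ^ 3 ∈ O := by rw [← pow_mul, mul_comm, pow_mul]; exact pow_mem hx3O k
    have hnorm : s * s1 * s2 = 1 := by
      have hyC : o * s * x ^ k ∈ C := hy
      -- the cube is odd and lies in `L`
      set o1 := s * (x ^ k * o * (x ^ k)⁻¹) * s⁻¹ with ho1
      set o2 := s * (x ^ k * o1 * (x ^ k)⁻¹) * s⁻¹ with ho2
      have ho1O : o1 ∈ O := hOconj _ (hSC hs) _ (hOconj _ (pow_mem hxC' k) _ ho)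
      have ho2O : o2 ∈ O := hOconj _ (hSC hs) _ (hOconj _ (pow_mem hxC' k) _ ho1O)
      have e : (o * s * x ^ k) ^ 3 = (o * o1 * o2) * (s * s1 * s2) * (x ^ k) ^ 3 := by
        rw [ho2, ho1, hs2, hs1]
        simp only [pow_succ, pow_zero, one_mul]
        group
      have hOL : O ≤ L := fun v hv => by
        obtain ⟨v', hv', ev⟩ := hv
        refine ⟨v', mem_comap.2 ?_, ev⟩
        rw [show f v' = 1 from (QuotientGroup.eq_one_iff v').2 hv']; exact one_mem U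
      have h1 : (o * o1 * o2) * (s * s1 * s2) * (x ^ k) ^ 3 ∈ O := e ▸ hLodd _
        (e ▸ mul_mem (mul_mem (hOL (mul_mem (mul_mem ho ho1O) ho2O))
          (hSL (mul_mem (mul_mem hs hs1S) hs2S))) (hOL hx3k)) (hyodd.of_dvd_nat (orderOf_pow_dvd 3))
      rw [mul_mem_cancel_right hx3k, mul_mem_cancel_left (mul_mem (mul_mem ho ho1O) ho2O)] at h1
      exact hOS _ h1 (mul_mem (mul_mem hs hs1S) hs2S)
    refine ⟨s1, hs1S, s1⁻¹ * o * s1 * x ^ k, ?_, fun h => ?_, ?_⟩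
    · refine (hMmem _).2 ⟨_, ?_, k, rfl⟩
      simpa using hOconj _ (inv_mem (hSC hs1S)) o ho
    · have ho' : s1⁻¹ * o * s1 ∈ O := by simpa using hOconj _ (inv_mem (hSC hs1S)) o ho
      exact hk ((hpowO k).1 ((mul_mem_cancel_left ho').1 h))
    · -- `s = s₁ ψ(s₁)`
      have hinv : ∀ z ∈ (S : Subgroup G), z⁻¹ = z := fun z hz =>
        inv_eq_of_mul_eq_one_left (by rw [← sq]; exact hexp z hz)
      have hss : s = s1 * s2 := by
        have := eq_inv_of_mul_eq_one_left (show s * (s1 * s2) = 1 by rw [← mul_assoc]; exact hnorm)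
        rwa [hinv _ (mul_mem hs1S hs2S)] at this
      calc o * s * x ^ k = o * (s1 * s2⁻¹) * x ^ k := by rw [hinv _ hs2S, ← hss]
        _ = _ := by rw [hs2]; group
  · -- `|C| = 24 |O|`
    have hcardC : Nat.card C = Nat.card M * 8 := by
      have hb : Function.Bijective (fun p : ↥M × ↥(S : Subgroup G) =>
          (⟨(p.1 : G) * (p.2 : G), mul_mem (hMC p.1.2) (hSC p.2.2)⟩ : C)) := by
        refine ⟨fun p q h => ?_, fun c => ?_⟩
        · have h' : (p.1 : G) * p.2 = q.1 * q.2 := congrArg Subtype.val h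
          have e : (q.1 : G)⁻¹ * p.1 = (q.2 : G) * (p.2 : G)⁻¹ := by
            rw [eq_mul_inv_iff_mul_eq, mul_assoc, h', inv_mul_cancel_left]
          have h1 := hMS _ (mul_mem (inv_mem q.1.2) p.1.2) (e ▸ mul_mem q.2.2 (inv_mem p.2.2))
          refine Prod.ext (Subtype.ext (inv_mul_eq_one.1 h1).symm) (Subtype.ext ?_)
          rw [e] at h1
          exact (mul_inv_eq_one.1 h1).symm
        · obtain ⟨o, ho, s, hs, k, e⟩ := hdec c c.2
          refine ⟨(⟨o * x ^ k, (hMmem _).2 ⟨o, ho, k, rfl⟩⟩, ⟨(x ^ k)⁻¹ * s * x ^ k, ?_⟩),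
            Subtype.ext ?_⟩
          · have := (mem_normalizer_iff.1 (inv_mem (pow_mem hxN k)) s).1 hs
            rwa [inv_inv] at this
          · show o * x ^ k * ((x ^ k)⁻¹ * s * x ^ k) = (c : G)
            rw [e]; group
      rw [← Nat.card_congr (Equiv.ofBijective _ hb), Nat.card_prod, h8]
    rw [hcardC]; ring
  · refine ⟨L, ?_, fun v hv => ⟨fun h => hLodd v h ?_, fun h => ?_⟩, hSL, hCSL, ?_⟩
    · rintro c hc _ ⟨l, hl, rfl⟩
      exact ⟨⟨c, hc⟩ * l * ⟨c, hc⟩⁻¹, hUcomap.conj_mem l hl _, rfl⟩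
    · exact hModd.of_dvd_nat (orderOf_mk v hv ▸ orderOf_dvd_natCard (⟨v, hv⟩ : M))
    · obtain ⟨o', ho', e⟩ := h
      refine ⟨o', mem_comap.2 ?_, e⟩
      rw [show f o' = 1 from (QuotientGroup.eq_one_iff o').2 ho']; exact one_mem U
    · intro c hc
      obtain ⟨o, ho, s, hs, k, rfl⟩ := hdec c hc
      refine ⟨o * x ^ k, (hMmem _).2 ⟨o, ho, k, rfl⟩, ?_⟩
      have hmem : (x ^ k)⁻¹ * s * x ^ k ∈ (S : Subgroup G) := by
        have := (mem_normalizer_iff.1 (inv_mem (pow_mem hxN k)) s).1 hs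
        rwa [inv_inv] at this
      convert hSL hmem using 1
      group

end Cfsg.Agent.E8Auto
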