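import Mathlib
import Cfsg.Agent.E8Auto.Local
import Cfsg.Agent.Invol.SectionInduce
import Cfsg.Agent.Invol.Section942
import Cfsg.Agent.Char.Linear

/-!
# No simple group has automiser of order 3 or 21 with solvable involution centraliser

Three virtual characters induced from `M × ⟨t⟩` are compared with the principal 2-block.
-/

set_option autoImplicit false

namespace Cfsg.Agent.E8Auto

open Cfsg.Agent Subgroup
open scoped ComplexConjugate Classical

universe u

variable {G : Type u} [Group G] [Fintype G]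

/-- Weighted vanishing over the regular part of a section outside the principal block. -/
theorem section_weight_eq_zero {p : ℕ} {M : Ideal Cfsg.AlgInt} (hM : Cfsg.IsPModular p M) {u : G}
    (hu : ∃ k, orderOf u = p ^ k) {χ : Cfsg.IrrCharacter G} (hχ : χ ∉ Cfsg.principalBlock M G)
    {φ : Cfsg.IrrCharacter (centralizer ({u} : Set G))}
    (hφ : φ ∈ Cfsg.principalBlock M (centralizer ({u} : Set G))) :
    ∑ y ∈ Finset.univ.filter (fun y : centralizer ({u} : Set G) => ¬ p ∣ orderOf y),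
      (φ : centralizer ({u} : Set G) → ℂ) y * conj ((χ : G → ℂ) (u * (y : G))) = 0 := by
  have h0 : ∑ y ∈ Finset.univ.filter (fun y : centralizer ({u} : Set G) => ¬ p ∣ orderOf y),
      conj ((φ : centralizer ({u} : Set G) → ℂ) y) * (χ : G → ℂ) (u * (y : G)) = 0 := by
    rw [Finset.sum_congr rfl fun y hy => by
      rw [Invol.shift_eq_sum hM hu (Blocks.isPBlock_blockOf χ) (Blocks.mem_blockOf_self hM χ)
        (Finset.mem_filter.1 hy).2, Finset.mul_sum], Finset.sum_comm]
    refine Finset.sum_eq_zero fun ψ hψ => ?_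
    have hψ0 : ψ ∉ Cfsg.principalBlock M (centralizer ({u} : Set G)) := fun h => by
      have h1 := (Finset.mem_filter.1 hψ).2
      have h2 := (Invol.induced_principal_iff hM hu).2 h
      refine hχ (Blocks.mem_blockOf.2 fun g => ?_)
      have e1 := h1.2.2 ψ (Blocks.mem_blockOf_self hM ψ) χ (Blocks.mem_blockOf_self hM χ) g
      have e2 := h2.2.2 ψ (Blocks.mem_blockOf_self hM ψ) (Blocks.triv G)
        (Blocks.triv_mem_principalBlock hM) g
      simpa [Blocks.triv] using Blocks.memLocalIdeal_sub hM e1 e2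
    have h := BlockThms.sum_eta_mul_eq_zero hM (Blocks.isPBlock_principalBlock M) hφ hψ0
    simp only [mul_left_comm (conj _), ← Finset.mul_sum]
    refine mul_eq_zero_of_right _ ?_
    rw [← h, Finset.sum_filter]
    refine Finset.sum_congr (by ext; simp) fun y _ => ?_
    by_cases hy : p ∣ orderOf y
    · rw [BlockThms.eta_of_singular _ (fun h => h hy), zero_mul, if_neg (not_not.2 hy)]
    · rw [BlockThms.eta_of_regular _ hy, if_pos hy]
  have := congrArg conj h0
  simpa [map_sum] using this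

variable {S : Sylow 2 G} {t : G} {O M : Subgroup G}

/-- The linear character of order 3 of the centraliser. -/
theorem Sect.exists_hom (hd : Sect S t O M) :
    ∃ Λ : centralizer ({t} : Set G) →* ℂˣ, (∀ c, Λ c ^ 3 = 1) ∧
      (∀ c : centralizer ({t} : Set G), (c : G) ∈ (S : Subgroup G) → Λ c = 1) ∧
      (∀ c : centralizer ({t} : Set G), (c : G) ∈ M → (Λ c = 1 ↔ (c : G) ∈ O)) ∧
      (∀ c : centralizer ({t} : Set G), (c : G) ∈ centralizer ((S : Subgroup G) : Set G) →
        Λ c = 1) := by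
  obtain ⟨L, hconj, hLM, hSL, hCSL, hdec⟩ := hd.ker
  set C := centralizer ({t} : Set G) with hC
  set L' := L.subgroupOf C with hL'
  have hn : L'.Normal := ⟨fun l hl c => mem_subgroupOf.2 (hconj c c.2 l (mem_subgroupOf.1 hl))⟩
  set g : M →* C ⧸ L' := (QuotientGroup.mk' L').comp (inclusion hd.le_cent) with hg
  have hsurj : Function.Surjective g := by
    intro q
    obtain ⟨c, rfl⟩ := QuotientGroup.mk'_surjective L' q
    obtain ⟨v, hv, hvc⟩ := hdec c c.2
    exact ⟨⟨v, hv⟩, QuotientGroup.eq.2 (mem_subgroupOf.2 (by simpa using hvc))⟩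
  have hker : g.ker = O.subgroupOf M := by
    ext v
    rw [MonoidHom.mem_ker, hg, MonoidHom.comp_apply, QuotientGroup.mk'_apply,
      QuotientGroup.eq_one_iff, mem_subgroupOf, mem_subgroupOf]
    exact hLM _ v.2
  have hcard : Nat.card (C ⧸ L') = 3 := by
    have := index_ker g
    rw [hker, MonoidHom.range_eq_top.2 hsurj, card_top] at this
    exact this ▸ hd.relIndex
  have : Fact (Nat.Prime 3) := ⟨by norm_num⟩
  have hr : Nat.card (rootsOfUnity 3 ℂ) = 3 := by
    exact Complex.card_rootsOfUnity 3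
  let e : C ⧸ L' ≃* rootsOfUnity 3 ℂ := mulEquivOfPrimeCardEq hcard hr
  let Λ : C →* ℂˣ := ((rootsOfUnity 3 ℂ).subtype.comp e.toMonoidHom).comp (QuotientGroup.mk' L')
  have h1 : ∀ c, Λ c = 1 ↔ (c : G) ∈ L := fun c => by
    show ((e (QuotientGroup.mk' L' c) : rootsOfUnity 3 ℂ) : ℂˣ) = 1 ↔ _
    rw [OneMemClass.coe_eq_one, map_eq_one_iff e e.injective, QuotientGroup.mk'_apply,
      QuotientGroup.eq_one_iff, mem_subgroupOf]
  exact ⟨Λ, fun c => (mem_rootsOfUnity _ _).1 (e (QuotientGroup.mk' L' c)).2,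
    fun c hc => (h1 c).2 (hSL hc), fun c hc => (h1 c).trans (hLM _ hc),
    fun c hc => (h1 c).2 (hCSL hc)⟩

variable {Λ : centralizer ({t} : Set G) →* ℂˣ}

/-- Restriction of the linear character to `M`. -/
noncomputable def Sect.mu (hd : Sect S t O M) (Λ : centralizer ({t} : Set G) →* ℂˣ) : M →* ℂˣ :=
  Λ.comp (inclusion hd.le_cent)

theorem Sect.sum_three (hd : Sect S t O M) (h3 : ∀ c, Λ c ^ 3 = 1)
    (hO : ∀ c : centralizer ({t} : Set G), (c : G) ∈ M → (Λ c = 1 ↔ (c : G) ∈ O)) (f : M → ℂ) :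
    ∑ v : M, f v + ∑ v : M, (hd.mu Λ v : ℂ) * f v + ∑ v : M, (hd.mu Λ v : ℂ) ^ 2 * f v =
      3 * ∑ v ∈ Finset.univ.filter (fun v : M => (v : G) ∈ O), f v := by
  rw [← Finset.sum_add_distrib, ← Finset.sum_add_distrib, Finset.sum_filter, Finset.mul_sum]
  refine Finset.sum_congr rfl fun v _ => ?_
  have h := hO (inclusion hd.le_cent v) v.2
  by_cases hv : (v : G) ∈ O
  · have e : hd.mu Λ v = 1 := h.2 hv
    rw [if_pos hv, e]; simp; ring
  · have e : (hd.mu Λ v : ℂ) ≠ 1 := fun e => hv (h.1 (Units.ext e))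
    have e3 : (hd.mu Λ v : ℂ) ^ 3 = 1 := by
      rw [← Units.val_pow_eq_pow_val, show hd.mu Λ v ^ 3 = 1 from h3 _]; rfl
    rw [if_neg hv, mul_zero]
    have : (hd.mu Λ v : ℂ) ^ 2 + hd.mu Λ v + 1 = 0 := by
      refine mul_left_cancel₀ (sub_ne_zero.2 e) ?_
      linear_combination e3
    linear_combination f v * this

theorem Sect.card_M (hd : Sect S t O M) : Nat.card M = 3 * Nat.card O := by
  rw [← card_mul_index (O.subgroupOf M), Nat.card_congr (subgroupOfEquivOfLe hd.le).toEquiv,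
    show (O.subgroupOf M).index = 3 from hd.relIndex, mul_comm]

theorem Sect.card_filter_O (hd : Sect S t O M) :
    (Finset.univ.filter (fun v : M => (v : G) ∈ O)).card = Nat.card O := by
  rw [← Fintype.card_subtype, ← Nat.card_eq_fintype_card]
  exact Nat.card_congr ⟨fun v => ⟨_, v.2⟩, fun o => ⟨⟨_, hd.le o.2⟩, o.2⟩, fun _ => rfl,
    fun _ => rfl⟩

theorem Sect.t_not_mem (hd : Sect S t O M) (ht2 : orderOf t = 2) : t ∉ M := fun h => by
  have := hd.odd.of_dvd_nat (orderOf_mk t h ▸ orderOf_dvd_natCard (⟨t, h⟩ : M))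
  rw [ht2] at this
  exact absurd this (by decide)

theorem Sect.comm (hd : Sect S t O M) {v : G} (hv : v ∈ M) : Commute v t :=
  mem_centralizer_singleton_iff.1 (hd.le_cent hv)

/-- A conjugation between two points of `tM` fixes `t`. -/
theorem Sect.conj_mem (hd : Sect S t O M) (ht2 : orderOf t = 2) {v w x : G} (hv : v ∈ M)
    (hw : w ∈ M) (h : x * (t * v) * x⁻¹ = t * w) :
    x ∈ centralizer ({t} : Set G) ∧ x * v * x⁻¹ = w := by
  have key : ∀ a ∈ M, (t * a) ^ Nat.card M = t := fun a ha => by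
    obtain ⟨k, hk⟩ := hd.odd
    have hap : a ^ Nat.card M = 1 := congrArg Subtype.val (pow_card_eq_one' (x := (⟨a, ha⟩ : M)))
    rw [(hd.comm ha).symm.mul_pow, hap,
      mul_one, hk, pow_succ, pow_mul, ← ht2, pow_orderOf_eq_one, one_pow, one_mul]
  have ht : x * t * x⁻¹ = t := by rw [← key v hv, ← conj_pow, h, key w hw, key v hv]
  refine ⟨mem_centralizer_singleton_iff.2 (mul_inv_eq_iff_eq_mul.1 ht), ?_⟩
  calc x * v * x⁻¹ = (x * t * x⁻¹)⁻¹ * (x * (t * v) * x⁻¹) := by group
    _ = w := by rw [ht, h, inv_mul_cancel_left]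

theorem Sect.exists_dbl (hd : Sect S t O M) (ht2 : orderOf t = 2) :
    ∃ N : Subgroup G, N ≤ centralizer ({t} : Set G) ∧ (∀ g, g ∈ N ↔ g ∈ M ∨ g * t ∈ M) ∧
      Nat.card N = 2 * Nat.card M ∧
      (∀ f : N → ℂ, (∀ y : N, (y : G) ∈ M → f y = 0) →
        ∀ hN : ∀ v : M, t * (v : G) ∈ N, ∑ y : N, f y = ∑ v : M, f ⟨_, hN v⟩) ∧
      ∃ ε : N →* ℂˣ, ∀ y : N, (ε y : ℂ) = if (y : G) ∈ M then 1 else -1 := by
  have htC : t ∈ centralizer ({t} : Set G) := mem_centralizer_singleton_iff.2 rfl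
  have htt : t * t = 1 := by rw [← sq, ← ht2, pow_orderOf_eq_one]
  have htM := hd.t_not_mem ht2
  have hle : ∀ g, g ∈ M ∨ g * t ∈ M → g ∈ centralizer ({t} : Set G) := fun g hg => by
    rcases hg with h | h
    · exact hd.le_cent h
    · have := mul_mem (hd.le_cent h) htC
      rwa [mul_assoc, htt, mul_one] at this
  have hcm : ∀ g, g ∈ M ∨ g * t ∈ M → Commute g t := fun g hg =>
    mem_centralizer_singleton_iff.1 (hle g hg)
  have hmul : ∀ a b, (a ∈ M ∨ a * t ∈ M) → (b ∈ M ∨ b * t ∈ M) →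
      ((a ∈ M ↔ b ∈ M) → a * b ∈ M) ∧ (¬ (a ∈ M ↔ b ∈ M) → a * b * t ∈ M ∧ a * b ∉ M) := by
    intro a b ha hb
    have hnot : ∀ z, z * t ∈ M → z ∉ M := fun z h1 h2 => htM (by
      simpa using mul_mem (inv_mem h2) h1)
    have hbt := hcm b hb
    have e1 : a * t * (b * t) = a * b := by
      calc a * t * (b * t) = a * (t * b) * t := by simp [mul_assoc]
        _ = a * b := by rw [← hbt.eq]; simp [mul_assoc, htt]
    have e2 : a * t * b = a * b * t := by rw [mul_assoc, ← hbt.eq, mul_assoc]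
    rcases ha with ha | ha <;> rcases hb with hb | hb
    · exact ⟨fun _ => mul_mem ha hb, fun h => absurd (iff_of_true ha hb) h⟩
    · refine ⟨fun h => absurd (h.1 ha) (hnot b hb), fun _ => ?_⟩
      have : a * b * t ∈ M := by rw [mul_assoc]; exact mul_mem ha hb
      exact ⟨this, hnot _ this⟩
    · refine ⟨fun h => absurd (h.2 hb) (hnot a ha), fun _ => ?_⟩
      have : a * b * t ∈ M := e2 ▸ mul_mem ha hb
      exact ⟨this, hnot _ this⟩
    · exact ⟨fun _ => e1 ▸ mul_mem ha hb,
        fun h => absurd (iff_of_false (hnot a ha) (hnot b hb)) h⟩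
  let N : Subgroup G :=
    { carrier := {g | g ∈ M ∨ g * t ∈ M}
      one_mem' := Or.inl (one_mem M)
      mul_mem' := fun {a b} ha hb => by
        by_cases h : a ∈ M ↔ b ∈ M
        · exact Or.inl ((hmul a b ha hb).1 h)
        · exact Or.inr ((hmul a b ha hb).2 h).1
      inv_mem' := fun {a} ha => by
        rcases ha with h | h
        · exact Or.inl (inv_mem h)
        · right
          have e : a⁻¹ * t = (a * t)⁻¹ := by
            rw [mul_inv_rev, inv_eq_of_mul_eq_one_right htt]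
            exact (hcm a (Or.inr h)).inv_left.eq
          exact e ▸ inv_mem h }
  have hmem : ∀ g, g ∈ N ↔ g ∈ M ∨ g * t ∈ M := fun _ => Iff.rfl
  have hbv : ∀ v : M, t * (v : G) ∈ N := fun v => Or.inr (by
    rw [← (hd.comm v.2).eq, mul_assoc, htt, mul_one]; exact v.2)
  let b : M × Bool → N := fun p => if p.2 then ⟨t * (p.1 : G), hbv p.1⟩ else ⟨p.1, Or.inl p.1.2⟩
  have hb : Function.Bijective b := by
    refine ⟨?_, ?_⟩
    · rintro ⟨v, i⟩ ⟨w, j⟩ e
      have e' := congrArg Subtype.val e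
      cases i <;> cases j <;> simp [b] at e' ⊢
      · exact e'
      · exact htM (by simpa [e'] using mul_mem v.2 (inv_mem w.2))
      · exact htM (by simpa [← e'] using mul_mem w.2 (inv_mem v.2))
      · exact e'
    · rintro ⟨g, hg⟩
      by_cases h : g ∈ M
      · exact ⟨(⟨g, h⟩, false), rfl⟩
      · refine ⟨(⟨g * t, hg.resolve_left h⟩, true), Subtype.ext ?_⟩
        show t * (g * t) = g
        rw [← mul_assoc, ← (hcm g hg).eq, mul_assoc, htt, mul_one]
  refine ⟨N, fun g hg => hle g hg, hmem, ?_, ?_, ?_⟩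
  · rw [← Nat.card_congr (Equiv.ofBijective b hb), Nat.card_prod, Nat.card_eq_fintype_card (α := Bool),
      Fintype.card_bool, mul_comm]
  · intro f hf hN
    rw [← (Equiv.ofBijective b hb).sum_comp f, Fintype.sum_prod_type]
    refine Finset.sum_congr rfl fun v _ => ?_
    rw [Fintype.sum_bool]
    show f (b (v, true)) + f (b (v, false)) = _
    rw [hf (b (v, false)) v.2, add_zero]
    rfl
  · refine ⟨
      { toFun := fun y => if (y : G) ∈ M then 1 else -1
        map_one' := if_pos (one_mem M)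
        map_mul' := fun a c => ?_ }, fun y => ?_⟩
    · have h := hmul _ _ a.2 c.2
      by_cases ha : (a : G) ∈ M <;> by_cases hc : (c : G) ∈ M
      · simp [ha, hc, mul_mem ha hc]
      · simp [ha, hc, (h.2 (by simp [ha, hc])).2]
      · simp [ha, hc, (h.2 (by simp [ha, hc])).2]
      · simp [ha, hc, h.1 (iff_of_false ha hc)]
    · show ((if (y : G) ∈ M then (1 : ℂˣ) else -1 : ℂˣ) : ℂ) = _
      split_ifs <;> simp

/-- The virtual characters. -/
theorem Sect.exists_fun (hd : Sect S t O M) (ht2 : orderOf t = 2)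
    (ht1 : ∀ c : centralizer ({t} : Set G), (c : G) = t → Λ c = 1)
    (hO : ∀ c : centralizer ({t} : Set G), (c : G) ∈ M → (Λ c = 1 ↔ (c : G) ∈ O)) (i : ℕ) :
    ∃ F : G → ℂ, Cfsg.IsGeneralizedCharacter G F ∧ F 1 = 0 ∧
      (∀ χ : G → ℂ, Cfsg.IsClassFunction G χ → Cfsg.classInner F χ =
        (Nat.card M : ℂ)⁻¹ * ∑ v : M, (hd.mu Λ v : ℂ) ^ i * conj (χ (t * (v : G)))) ∧
      (∀ g, (∀ v ∈ M, ¬ IsConj g (t * v)) → F g = 0) ∧
      ∀ v : M, F (t * (v : G)) = if (v : G) ∈ O then 8 else 2 * (hd.mu Λ v : ℂ) ^ i := by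
  obtain ⟨N, hNC, hN, hNcard, hsum, ε, hε⟩ := hd.exists_dbl ht2
  have htt : t * t = 1 := by rw [← sq, ← ht2, pow_orderOf_eq_one]
  have htC : t ∈ centralizer ({t} : Set G) := mem_centralizer_singleton_iff.2 rfl
  have htM := hd.t_not_mem ht2
  set φ : N →* ℂˣ := (Λ.comp (inclusion hNC)) ^ i with hφ
  set θ : N → ℂ := fun y => (φ y : ℂ) - ((ε * φ) y : ℂ) with hθ
  have hθ0 : ∀ y : N, (y : G) ∈ M → θ y = 0 := fun y hy => by simp [hθ, hε, hy]
  have hgen : Cfsg.IsGeneralizedCharacter N θ :=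
    ⟨_, _, Char.isCharacter_hom φ, Char.isCharacter_hom (ε * φ), rfl⟩
  have htvN : ∀ v : M, t * (v : G) ∈ N := fun v => (hN _).2 (Or.inr (by
    rw [← (hd.comm v.2).eq, mul_assoc, htt, mul_one]; exact v.2))
  have htvM : ∀ v : M, t * (v : G) ∉ M := fun v h => htM (by
    simpa using mul_mem h (inv_mem v.2))
  have hθt : ∀ (v : M) (h : t * (v : G) ∈ N), θ ⟨_, h⟩ = 2 * (hd.mu Λ v : ℂ) ^ i := by
    intro v h
    have e : Λ (inclusion hNC ⟨_, h⟩) = hd.mu Λ v := by
      show Λ ⟨t * v, _⟩ = _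
      rw [show (⟨t * v, hNC h⟩ : centralizer ({t} : Set G)) =
        ⟨t, htC⟩ * inclusion hd.le_cent v from rfl, map_mul, ht1 _ rfl, one_mul]
      rfl
    simp only [hθ, MonoidHom.mul_apply, Units.val_mul, hε, htvM v, if_false, hφ,
      MonoidHom.pow_apply, MonoidHom.comp_apply, e, Units.val_pow_eq_pow_val]
    ring
  have hext : ∀ y : G, Cfsg.extendByZero N θ y ≠ 0 → ∃ w : M, y = t * w := by
    intro y hy
    by_cases hyN : y ∈ N
    · rw [Char.extendByZero_of_mem N θ hyN] at hy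
      rcases (hN y).1 hyN with h | h
      · exact absurd (hθ0 _ h) hy
      · refine ⟨⟨_, h⟩, ?_⟩
        show y = t * (y * t)
        rw [← mul_assoc, ← (mem_centralizer_singleton_iff.1 (hNC hyN)), mul_assoc, htt, mul_one]
    · exact absurd (Char.extendByZero_of_not_mem N θ hyN) hy
  refine ⟨Cfsg.indFun N θ, Char.isGeneralized_indFun N hgen, ?_, ?_, ?_, ?_⟩
  · rw [Char.indFun_apply_one, hθ0 1 (one_mem M), mul_zero]
  · intro χ hχ
    rw [Char.classInner_indFun_left N θ hχ, Cfsg.classInner, hNcard,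
      hsum _ (fun y hy => by rw [hθ0 y hy, zero_mul]) htvN]
    simp only [hθt, mul_assoc, ← Finset.mul_sum]
    push_cast
    ring
  · intro g hg
    rw [Char.indFun_apply]
    refine mul_eq_zero_of_right _ (Finset.sum_eq_zero fun x _ => ?_)
    by_contra h
    obtain ⟨w, hw⟩ := hext _ h
    exact hg w w.2 (isConj_iff.2 ⟨x⁻¹, by simpa using hw⟩)
  · intro v
    have hterm : ∀ x : G, Cfsg.extendByZero N θ (x⁻¹ * (t * (v : G)) * x) =
        if (v : G) ∈ O then (if x ∈ centralizer ({t} : Set G) then 2 else 0)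
        else (if x ∈ N then 2 * (hd.mu Λ v : ℂ) ^ i else 0) := by
      intro x
      have hzero : ∀ (P : Prop), (∀ w : M, x⁻¹ * (t * (v : G)) * x = t * w → P) → ¬ P →
          Cfsg.extendByZero N θ (x⁻¹ * (t * (v : G)) * x) = 0 := by
        intro P hP hnP
        by_contra h
        obtain ⟨w, hw⟩ := hext _ h
        exact hnP (hP w hw)
      have hval : ∀ hx : x ∈ centralizer ({t} : Set G), ∀ w : M,
          x⁻¹ * (v : G) * x = w →
          Cfsg.extendByZero N θ (x⁻¹ * (t * (v : G)) * x) = 2 * (hd.mu Λ w : ℂ) ^ i := by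
        intro hx w hw
        have e : x⁻¹ * (t * (v : G)) * x = t * w := by
          rw [← hw]
          calc _ = (x⁻¹ * t) * v * x := by group
            _ = (t * x⁻¹) * v * x := by
              rw [(show Commute x t from mem_centralizer_singleton_iff.1 hx).inv_left.eq]
            _ = _ := by group
        rw [e, Char.extendByZero_of_mem N θ (htvN w), hθt]
      have hrev : ∀ w : M, x⁻¹ * (t * (v : G)) * x = t * w →
          x⁻¹ ∈ centralizer ({t} : Set G) ∧ x⁻¹ * (v : G) * x⁻¹⁻¹ = w := fun w hw =>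
        hd.conj_mem ht2 v.2 w.2 (by rwa [inv_inv])
      by_cases hv : (v : G) ∈ O
      · rw [if_pos hv]
        by_cases hx : x ∈ centralizer ({t} : Set G)
        · have hc : x⁻¹ * (v : G) * x ∈ O := by
            simpa using hd.conj x⁻¹ (inv_mem hx) v hv
          rw [if_pos hx, hval hx ⟨_, hd.le hc⟩ rfl,
            show hd.mu Λ ⟨_, hd.le hc⟩ = 1 from (hO (inclusion hd.le_cent ⟨_, hd.le hc⟩) (hd.le hc)).2 hc]
          simp
        · rw [if_neg hx]
          exact hzero _ (fun w hw => inv_mem_iff.1 (hrev w hw).1) hx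
      · rw [if_neg hv]
        by_cases hxN : x ∈ N
        · have hx := hNC hxN
          have hc : x⁻¹ * (v : G) * x ∈ M := by
            rcases (hN x).1 hxN with h | h
            · exact mul_mem (mul_mem (inv_mem h) v.2) h
            · have := mul_mem (mul_mem (inv_mem h) v.2) h
              have e : (x * t)⁻¹ * v * (x * t) = x⁻¹ * v * x := by
                have e1 : t⁻¹ = t := inv_eq_of_mul_eq_one_right htt
                have e2 : Commute (x⁻¹ * v * x) t :=
                  (((show Commute x t from mem_centralizer_singleton_iff.1 hx).inv_left).mul_left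
                    (hd.comm v.2)).mul_left (mem_centralizer_singleton_iff.1 hx)
                calc _ = t⁻¹ * ((x⁻¹ * v * x) * t) := by group
                  _ = _ := by rw [e2.eq, inv_mul_cancel_left]
              rwa [e] at this
          have hin := hd.inner x⁻¹ (inv_mem hx) v v.2 hv (by simpa using hc)
          rw [if_pos hxN, hval hx ⟨_, hc⟩ rfl]
          suffices hd.mu Λ ⟨_, hc⟩ = hd.mu Λ v by rw [this]
          have h1 : hd.mu Λ (v⁻¹ * ⟨_, hc⟩) = 1 :=
            (hO (inclusion hd.le_cent (v⁻¹ * ⟨_, hc⟩)) (v⁻¹ * ⟨_, hc⟩ : M).2).2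
              (by simpa using hin.2)
          rwa [map_mul, map_inv, inv_mul_eq_one, eq_comm] at h1
        · rw [if_neg hxN]
          refine hzero _ (fun w hw => ?_) hxN
          obtain ⟨hx, he⟩ := hrev w hw
          exact inv_mem_iff.1 ((hN _).2 (hd.inner _ hx v v.2 hv (he ▸ w.2)).1)
    rw [Char.indFun_apply, Finset.sum_congr rfl fun x _ => hterm x]
    have hfil : ∀ H : Subgroup G, ((Finset.univ.filter fun x : G => x ∈ H).card : ℂ) = Nat.card H :=
      fun H => by rw [Nat.card_eq_fintype_card, Fintype.card_subtype]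
    have h0 : (Nat.card N : ℂ) ≠ 0 := Nat.cast_ne_zero.2 Nat.card_pos.ne'
    split_ifs
    · rw [← Finset.sum_filter, Finset.sum_const, nsmul_eq_mul, hfil, hd.index]
      rw [hNcard] at h0 ⊢
      push_cast at h0 ⊢
      field_simp
    · rw [← Finset.sum_filter, Finset.sum_const, nsmul_eq_mul, hfil, inv_mul_cancel_left₀ h0]

/-- A virtual character of norm 4 vanishing at 1 has multiplicities at most 1. -/
theorem mult_small {F : G → ℂ} (hF : Cfsg.IsGeneralizedCharacter G F) (h1 : F 1 = 0)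
    (hn : Cfsg.classInner F F = 4) (χ : Cfsg.IrrCharacter G) :
    ∃ m : ℤ, Cfsg.classInner F (χ : G → ℂ) = m ∧ -1 ≤ m ∧ m ≤ 1 := by
  obtain ⟨m, hm, -, hsum⟩ := Char.IsGen.exists_mult hF
  rw [hn] at hsum
  have hs : (∑ ψ, m ψ ^ 2) = (4 : ℤ) := by exact_mod_cast hsum.symm
  refine ⟨m χ, hm χ, ?_⟩
  by_contra hcon
  have h2 : 4 ≤ m χ ^ 2 := by
    rw [sq]
    rcases (show m χ ≤ -2 ∨ 2 ≤ m χ by omega) with h | h <;> nlinarith
  rw [← Finset.add_sum_erase _ _ (Finset.mem_univ χ)] at hs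
  have h3 : ∑ ψ ∈ Finset.univ.erase χ, m ψ ^ 2 = 0 :=
    le_antisymm (by linarith) (Finset.sum_nonneg fun _ _ => sq_nonneg _)
  have h4 : ∀ ψ, ψ ≠ χ → m ψ = 0 := fun ψ hψ => by
    simpa using (Finset.sum_eq_zero_iff_of_nonneg fun _ _ => sq_nonneg _).1 h3 ψ
      (Finset.mem_erase.2 ⟨hψ, Finset.mem_univ _⟩)
  have h5 := Invol.apply_eq_sum (Char.IsGen.isClassFunction hF) 1
  rw [Finset.sum_eq_single χ (fun ψ _ hψ => by rw [hm, h4 ψ hψ]; simp) (by simp), h1, hm] at h5
  rcases mul_eq_zero.1 h5 with h | h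
  · have : m χ = 0 := by exact_mod_cast h
    rw [this] at h2; norm_num at h2
  · exact Char.IsIrr.one_ne_zero χ.2 h

/-- The powers of the linear character lie in the principal 2-block of the centraliser. -/
theorem Sect.hom_mem_principal (hd : Sect S t O M) (hS : (S : Subgroup G) ≤ centralizer ({t} : Set G))
    {I : Ideal Cfsg.AlgInt} (hI : Cfsg.IsPModular 2 I) (h3 : ∀ c, Λ c ^ 3 = 1)
    (hCS : ∀ c : centralizer ({t} : Set G), (c : G) ∈ centralizer ((S : Subgroup G) : Set G) →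
        Λ c = 1) (i : ℕ) :
    (⟨_, Char.isIrrCharacter_hom (Λ ^ i)⟩ : Cfsg.IrrCharacter (centralizer ({t} : Set G))) ∈
      Cfsg.principalBlock I (centralizer ({t} : Set G)) := by
  refine Blocks.mem_blockOf.2 fun c => ?_
  set n := (centralizer ({c} : Set (centralizer ({t} : Set G)))).index with hn
  have e : Cfsg.centralChar (fun _ : centralizer ({t} : Set G) => (1 : ℂ)) c -
      Cfsg.centralChar (fun g => ((Λ ^ i) g : ℂ)) c = (n : ℂ) * (1 - ((Λ ^ i) c : ℂ)) := by
    simp [Cfsg.centralChar, hn]; ring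
  show Cfsg.MemLocalIdeal I _
  rw [e]
  by_cases hc : Λ c = 1
  · simp [hc, Blocks.memLocalIdeal_zero hI]
  refine Blocks.memLocalIdeal_mul_right hI ((Blocks.memLocalIdeal_natCast_iff hI n).2 ?_)
    (Blocks.memLocalRing_of_isIntegral hI (isIntegral_one.sub
      (Blocks.isIntegral_of_pow_eq_one (n := 3) (by norm_num) (by
        rw [← Units.val_pow_eq_pow_val, MonoidHom.pow_apply, ← pow_mul, mul_comm, pow_mul, h3,
          one_pow, Units.val_one]))))
  by_contra hodd
  have : Fact (Nat.Prime 2) := ⟨Nat.prime_two⟩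
  set SC : Subgroup (centralizer ({t} : Set G)) := (S : Subgroup G).subgroupOf _ with hSC
  have hP : IsPGroup 2 SC := S.isPGroup'.of_equiv (subgroupOfEquivOfLe hS).symm
  obtain ⟨q, hq⟩ := hP.nonempty_fixed_point_of_prime_not_dvd_card
    (centralizer ({t} : Set G) ⧸ centralizer ({c} : Set (centralizer ({t} : Set G)))) hodd
  induction q using QuotientGroup.induction_on with
  | H a =>
    refine hc ?_
    have hfix : ∀ s : SC, Commute (a⁻¹ * (s : centralizer ({t} : Set G)) * a) c := fun s => by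
      have h := hq s⁻¹
      have h' := QuotientGroup.eq.1 h
      refine mem_centralizer_singleton_iff.1 ?_
      simpa [mul_assoc, smul_eq_mul, Subgroup.smul_def] using h'
    have hacs : ((a * c * a⁻¹ : centralizer ({t} : Set G)) : G) ∈
        centralizer ((S : Subgroup G) : Set G) := mem_centralizer_iff.2 fun s hs => by
      have h := hfix ⟨⟨s, hS hs⟩, mem_subgroupOf.2 hs⟩
      have e := congrArg (fun z => ((a * z * a⁻¹ : centralizer ({t} : Set G)) : G)) h.eq
      simpa [mul_assoc] using e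
    have := hCS _ hacs
    simpa using this

/-- Outside the principal block the twisted sums over `tM` vanish. -/
theorem Sect.sum_eq_zero (hd : Sect S t O M) (hS : (S : Subgroup G) ≤ centralizer ({t} : Set G))
    (h8 : Nat.card (S : Subgroup G) = 8) (ht : t ∈ (S : Subgroup G)) (ht2 : orderOf t = 2)
    {I : Ideal Cfsg.AlgInt} (hI : Cfsg.IsPModular 2 I) (h3 : ∀ c, Λ c ^ 3 = 1)
    (hO : ∀ c : centralizer ({t} : Set G), (c : G) ∈ M → (Λ c = 1 ↔ (c : G) ∈ O))
    (hCS : ∀ c : centralizer ({t} : Set G), (c : G) ∈ centralizer ((S : Subgroup G) : Set G) →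
        Λ c = 1)
    {χ : Cfsg.IrrCharacter G} (hχ : χ ∉ Cfsg.principalBlock I G) (i : ℕ) :
    ∑ v : M, (hd.mu Λ v : ℂ) ^ i * conj ((χ : G → ℂ) (t * (v : G))) = 0 := by
  set B := ∑ v ∈ Finset.univ.filter (fun v : M => (v : G) ∈ O),
    conj ((χ : G → ℂ) (t * (v : G))) with hB
  suffices h : ∀ j, 4 * (∑ v : M, (hd.mu Λ v : ℂ) ^ j * conj ((χ : G → ℂ) (t * (v : G)))) = 3 * B by
    have hB0 : B = 0 := by
      have hs := hd.sum_three h3 hO fun v => conj ((χ : G → ℂ) (t * (v : G)))
      have h0 := h 0; have h1 := h 1; have h2 := h 2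
      simp only [pow_zero, one_mul, pow_one] at h0 h1
      linear_combination (-(4 : ℂ) / 3) * hs + (1 / 3 : ℂ) * h0 + (1 / 3 : ℂ) * h1 + (1 / 3 : ℂ) * h2
    have := h i
    rw [hB0, mul_zero] at this
    exact (mul_eq_zero.1 this).resolve_left (by norm_num)
  intro j
  set f : (centralizer ({t} : Set G)) → ℂ := fun y => ((Λ ^ j) y : ℂ) * conj ((χ : G → ℂ) (t * (y : G))) with hf
  have hfc : ∀ y k : (centralizer ({t} : Set G)), f (k * y * k⁻¹) = f y := fun y k => by
    simp only [hf]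
    congr 1
    · congr 1
      rw [map_mul, map_mul, map_inv, mul_comm ((Λ ^ j) k), mul_inv_cancel_right]
    · exact congrArg conj (Invol.isClassFunction_shift (Char.isClassFunction_of_isIrr χ.2) t y k)
  have htot : ∑ y ∈ Finset.univ.filter (fun y : (centralizer ({t} : Set G)) => ¬ 2 ∣ orderOf y), f y = 0 :=
    section_weight_eq_zero hI ⟨1, by rw [ht2, pow_one]⟩ hχ (hd.hom_mem_principal hS hI h3 hCS j)
  have hsumM : ∀ v : M, f (inclusion hd.le_cent v) =
      (hd.mu Λ v : ℂ) ^ j * conj ((χ : G → ℂ) (t * (v : G))) := fun v => by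
    simp only [hf, MonoidHom.pow_apply, Units.val_pow_eq_pow_val]
    rfl
  have htt : t * t = 1 := by rw [← sq, ← ht2, pow_orderOf_eq_one]
  have ht1 : t ≠ 1 := fun h => by rw [h, orderOf_one] at ht2; norm_num at ht2
  have hMS : ∀ z ∈ M, z ∈ (S : Subgroup G) → z = 1 := fun z hzM hzS => by
    have h1 : orderOf z ∣ Nat.card M := orderOf_mk z hzM ▸ orderOf_dvd_natCard (⟨z, hzM⟩ : M)
    have h2 : orderOf z ∣ 2 ^ 3 := by
      rw [show (2 : ℕ) ^ 3 = 8 from rfl, ← h8]
      exact orderOf_mk z hzS ▸ orderOf_dvd_natCard (⟨z, hzS⟩ : (S : Subgroup G))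
    exact orderOf_eq_one_iff.1 (Nat.eq_one_of_dvd_one
      (((Nat.coprime_two_right.2 hd.odd).pow_right 3) ▸ Nat.dvd_gcd h1 h2))
  set R := Finset.univ.filter (fun y : (centralizer ({t} : Set G)) => ¬ 2 ∣ orderOf y) with hR
  have hmemR : ∀ y : (centralizer ({t} : Set G)), y ∈ R ↔ Odd (orderOf (y : G)) := fun y => by
    rw [hR, Finset.mem_filter, orderOf_coe, ← Nat.not_even_iff_odd, even_iff_two_dvd]
    simp
  rw [← Finset.sum_filter_add_sum_filter_not R (fun y : (centralizer ({t} : Set G)) => (y : G) ∈ O)] at htot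
  have hO1 : ∑ y ∈ R.filter (fun y : (centralizer ({t} : Set G)) => (y : G) ∈ O), f y = B := by
    rw [hB]
    refine (Finset.sum_nbij (fun v : M => inclusion hd.le_cent v) (fun v hv => ?_) (fun _ _ _ _ e =>
      inclusion_injective hd.le_cent e) (fun y hy => ?_) fun v hv => ?_).symm
    · refine Finset.mem_filter.2 ⟨(hmemR _).2 ?_, (Finset.mem_filter.1 hv).2⟩
      exact hd.odd.of_dvd_nat (orderOf_mk (v : G) v.2 ▸ orderOf_dvd_natCard v)
    · have hy' := (Finset.mem_filter.1 (Finset.mem_coe.1 hy)).2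
      exact ⟨⟨y, hd.le hy'⟩, by simp [hy'], rfl⟩
    · rw [hsumM]
      have : hd.mu Λ v = 1 := (hO (inclusion hd.le_cent v) v.2).2 (Finset.mem_filter.1 hv).2
      simp [this]
  set P := (Finset.univ : Finset (S : Subgroup G)) ×ˢ Finset.univ.filter (fun v : M => (v : G) ∉ O)
    with hPdef
  set π : ↥(S : Subgroup G) × ↥M → (centralizer ({t} : Set G)) :=
    fun p => inclusion hS p.1 * inclusion hd.le_cent p.2 * (inclusion hS p.1)⁻¹ with hπ
  have hmaps : ∀ p ∈ P, π p ∈ R.filter (fun y : (centralizer ({t} : Set G)) => (y : G) ∉ O) := fun p hp => by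
    have hv := (Finset.mem_filter.1 (Finset.mem_product.1 hp).2).2
    refine Finset.mem_filter.2 ⟨(hmemR _).2 ?_, fun h => hv ?_⟩
    · rw [orderOf_coe]
      have : orderOf (π p) = orderOf (inclusion hd.le_cent p.2) := by
        rw [hπ]; exact (MulAut.conj (inclusion hS p.1)).orderOf_eq _
      rw [this, ← orderOf_coe]
      exact hd.odd.of_dvd_nat (orderOf_mk (p.2 : G) p.2.2 ▸ orderOf_dvd_natCard p.2)
    · have := hd.conj _ (inv_mem (hS p.1.2)) _ h
      simpa [hπ, mul_assoc] using this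
  have hfib : ∀ y ∈ R.filter (fun y : (centralizer ({t} : Set G)) => (y : G) ∉ O),
      (P.filter fun p => π p = y).card = 2 := by
    intro y hy
    obtain ⟨hyR, hyO⟩ := Finset.mem_filter.1 hy
    obtain ⟨s, hs, v, hv, hvO, he⟩ := (hd.cover y y.2 ((hmemR y).1 hyR)).resolve_left hyO
    have hpair : P.filter (fun p => π p = y) =
        {((⟨s, hs⟩ : (S : Subgroup G)), (⟨v, hv⟩ : M)), (⟨s * t, mul_mem hs ht⟩, ⟨v, hv⟩)} := by
      ext ⟨⟨s', hs'⟩, ⟨v', hv'⟩⟩
      simp only [Finset.mem_filter, hPdef, Finset.mem_product, Finset.mem_univ, true_and,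
        Finset.mem_insert, Finset.mem_singleton, Prod.mk.injEq, Subtype.mk.injEq]
      constructor
      · rintro ⟨hv'O, hp⟩
        have hp' : s' * v' * s'⁻¹ = s * v * s⁻¹ := he ▸ congrArg Subtype.val hp
        set g := s'⁻¹ * s with hg
        have hgv : g * v * g⁻¹ = v' := by
          calc g * v * g⁻¹ = s'⁻¹ * (s * v * s⁻¹) * s' := by rw [hg]; group
            _ = v' := by rw [← hp']; group
        have hgS : g ∈ (S : Subgroup G) := mul_mem (inv_mem hs') hs
        rcases (hd.inner g (hS hgS) v hv hvO (hgv ▸ hv')).1 with h | h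
        · have hg1 : g = 1 := hMS g h hgS
          have : s' = s := inv_mul_eq_one.1 hg1
          exact Or.inl ⟨this, by rw [← hgv, hg1]; group⟩
        · have hg1 : g * t = 1 := hMS _ h (mul_mem hgS ht)
          have hgt : g = t := by
            rw [eq_inv_of_mul_eq_one_left hg1, inv_eq_of_mul_eq_one_right htt]
          refine Or.inr ⟨?_, ?_⟩
          · rw [← hgt, hg]
            have : s * (s'⁻¹ * s) = s' := by
              have hst : Commute s t := mem_centralizer_singleton_iff.1 (hS hs)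
              rw [show s'⁻¹ * s = t from hgt]
              have : s = s' * t := by rw [← hgt, hg]; group
              calc s * t = s' * t * t := by rw [← this]
                _ = s' := by rw [mul_assoc, htt, mul_one]
            exact this.symm
          · rw [← hgv, hgt, ← (hd.comm hv).eq, mul_inv_cancel_right]
      · rintro (⟨e1, e2⟩ | ⟨e1, e2⟩)
        · exact ⟨by rw [e2]; exact hvO, Subtype.ext (by simp [hπ, e1, e2, he])⟩
        · refine ⟨by rw [e2]; exact hvO, Subtype.ext ?_⟩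
          show s' * v' * s'⁻¹ = (y : G)
          rw [e1, e2]
          rw [he, mul_inv_rev, mul_assoc s t v, ← (hd.comm hv).eq]
          group
    rw [hpair, Finset.card_pair]
    simp only [ne_eq, Prod.mk.injEq, Subtype.mk.injEq, and_true]
    exact fun e => ht1 (by simpa using e.symm)
  have hT : 2 * ∑ y ∈ R.filter (fun y : (centralizer ({t} : Set G)) => (y : G) ∉ O), f y =
      8 * ∑ v ∈ Finset.univ.filter (fun v : M => (v : G) ∉ O),
        (hd.mu Λ v : ℂ) ^ j * conj ((χ : G → ℂ) (t * (v : G))) := by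
    have e1 : ∑ p ∈ P, f (π p) = 2 * ∑ y ∈ R.filter (fun y : (centralizer ({t} : Set G)) => (y : G) ∉ O), f y := by
      rw [← Finset.sum_fiberwise_of_maps_to (fun p hp => hmaps p hp), Finset.mul_sum]
      refine Finset.sum_congr rfl fun y hy => ?_
      rw [Finset.sum_congr rfl fun p hp => congrArg f (Finset.mem_filter.1 hp).2, Finset.sum_const,
        hfib y hy, nsmul_eq_mul, Nat.cast_ofNat]
    rw [← e1, hPdef, Finset.sum_product]
    simp only [hπ, hfc, hsumM, Finset.sum_const, Finset.card_univ, nsmul_eq_mul]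
    rw [← Nat.card_eq_fintype_card, h8]
    norm_num
  have hA := Finset.sum_filter_add_sum_filter_not (Finset.univ : Finset M) (fun v => (v : G) ∈ O)
    (fun v => (hd.mu Λ v : ℂ) ^ j * conj ((χ : G → ℂ) (t * (v : G))))
  have hA0 : ∑ v ∈ Finset.univ.filter (fun v : M => (v : G) ∈ O),
      (hd.mu Λ v : ℂ) ^ j * conj ((χ : G → ℂ) (t * (v : G))) = B :=
    Finset.sum_congr rfl fun v hv => by
      have : hd.mu Λ v = 1 := (hO (inclusion hd.le_cent v) v.2).2 (Finset.mem_filter.1 hv).2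
      simp [this]
  rw [hA0] at hA
  rw [hO1] at htot
  linear_combination htot - (1 / 2 : ℂ) * hT - 4 * hA

/-- In the principal block the three multiplicities add up to the value at `t`. -/
theorem Sect.sum_principal (hd : Sect S t O M) (ht2 : orderOf t = 2)
    {I : Ideal Cfsg.AlgInt} (hI : Cfsg.IsPModular 2 I) (h3 : ∀ c, Λ c ^ 3 = 1)
    (hO : ∀ c : centralizer ({t} : Set G), (c : G) ∈ M → (Λ c = 1 ↔ (c : G) ∈ O))
    {χ : Cfsg.IrrCharacter G} (hχ : χ ∈ Cfsg.principalBlock I G) :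
    (Nat.card M : ℂ)⁻¹ * (∑ v : M, conj ((χ : G → ℂ) (t * (v : G))) +
      ∑ v : M, (hd.mu Λ v : ℂ) * conj ((χ : G → ℂ) (t * (v : G))) +
      ∑ v : M, (hd.mu Λ v : ℂ) ^ 2 * conj ((χ : G → ℂ) (t * (v : G)))) =
      conj ((χ : G → ℂ) t) := by
  set K := O.subgroupOf (centralizer ({t} : Set G)) with hK
  have : K.Normal := ⟨fun o ho c => mem_subgroupOf.2 (hd.conj c c.2 o (mem_subgroupOf.1 ho))⟩
  have hKodd : ¬ 2 ∣ Nat.card K := by
    rw [hK, Nat.card_congr (subgroupOfEquivOfLe (hd.le.trans hd.le_cent)).toEquiv,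
      ← even_iff_two_dvd, Nat.not_even_iff_odd]
    exact hd.odd.of_dvd_nat (card_dvd_of_le hd.le)
  rw [hd.sum_three h3 hO]
  have hval : ∀ v ∈ Finset.univ.filter (fun v : M => (v : G) ∈ O),
      conj ((χ : G → ℂ) (t * (v : G))) = conj ((χ : G → ℂ) t) := fun v hv => congrArg conj
    (Invol.section_constant hI ⟨1, by rw [ht2, pow_one]⟩ K hKodd hχ
      (v := inclusion hd.le_cent v) (mem_subgroupOf.2 (Finset.mem_filter.1 hv).2))
  rw [Finset.sum_congr rfl hval, Finset.sum_const, nsmul_eq_mul, hd.card_filter_O, hd.card_M]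
  have : (Nat.card O : ℂ) ≠ 0 := Nat.cast_ne_zero.2 Nat.card_pos.ne'
  push_cast
  field_simp

/-- Degree against the value at `t`. -/
theorem degree_bound [IsSimpleGroup G] (h8 : Nat.card (S : Subgroup G) = 8) (ht2 : orderOf t = 2)
    (hconj : ∀ s ∈ (S : Subgroup G), s ≠ 1 → IsConj t s) {χ : Cfsg.IrrCharacter G}
    (hne : (χ : G → ℂ) ≠ fun _ => 1) {k : ℤ} (hk : (χ : G → ℂ) t = k) (hk2 : -2 ≤ k ∧ k ≤ 2) :
    ∃ d : ℕ, (χ : G → ℂ) 1 = d ∧ 7 ≤ d + (if k = 0 then 7 else 0) ∧
      ((k = 2 ∨ k = -2) → 10 ≤ d) := by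
  have hchar := Char.IsIrr.isCharacter χ.2
  set d := Cfsg.charDegree (χ : G → ℂ) with hd
  obtain ⟨hdeg, hpos⟩ := CharArith.irr_degree_spec χ
  refine ⟨d, hdeg, ?_⟩
  obtain ⟨n, hn⟩ := Char.classInner_isCharacter_eq_natCast
    (Char.isCharacter_res (S : Subgroup G) hchar) (Char.isCharacter_one (G := (S : Subgroup G)))
  have h8n : (8 : ℤ) * n = d + 7 * k := by
    rw [Cfsg.classInner, h8, ← Finset.add_sum_erase _ _ (Finset.mem_univ (1 : (S : Subgroup G)))]
      at hn
    have hval : ∀ s ∈ (Finset.univ : Finset (S : Subgroup G)).erase 1,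
        (χ : G → ℂ) (s : G) * conj (1 : ℂ) = (k : ℂ) := fun s hs => by
      obtain ⟨g, hg⟩ := isConj_iff.1 (hconj s s.2 fun e =>
        (Finset.mem_erase.1 hs).1 (Subtype.ext e))
      rw [map_one, mul_one, ← hg, Char.isClassFunction_of_isIrr χ.2 t g, hk]
    rw [Finset.sum_congr rfl hval, Finset.sum_const, Finset.card_erase_of_mem (Finset.mem_univ _),
      Finset.card_univ, ← Nat.card_eq_fintype_card, h8, map_one, mul_one, OneMemClass.coe_one,
      hdeg, ← hd] at hn
    simp only [nsmul_eq_mul, Nat.cast_ofNat] at hn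
    have : ((d : ℂ) + 7 * k) = 8 * n := by
      norm_num at hn
      linear_combination 8 * hn
    exact_mod_cast this.symm
  have hdk : (d : ℤ) ≠ k := by
    intro e
    have htk : t ∈ Char.kerSubgroup hchar := by
      rw [Char.mem_kerSubgroup, hk, hdeg, ← hd, ← e]; norm_cast
    have htop : Char.kerSubgroup hchar = ⊤ :=
      (Char.kerSubgroup_normal hchar).eq_bot_or_eq_top.resolve_left fun h => by
        rw [h, Subgroup.mem_bot] at htk
        rw [htk, orderOf_one] at ht2
        norm_num at ht2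
    have hall : ∀ g, (χ : G → ℂ) g = d := fun g => by
      have : g ∈ Char.kerSubgroup hchar := htop ▸ mem_top g
      rw [Char.mem_kerSubgroup, hdeg] at this
      exact this
    have hnorm := Char.classInner_irr_self χ.2
    rw [Cfsg.classInner] at hnorm
    simp only [hall, map_natCast, Finset.sum_const, Finset.card_univ, nsmul_eq_mul,
      ← Nat.card_eq_fintype_card] at hnorm
    rw [inv_mul_cancel_left₀ Char.card_ne_zero] at hnorm
    have h1 : d * d = 1 := by exact_mod_cast hnorm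
    refine hne (funext fun g => ?_)
    rw [hall, Nat.eq_one_of_mul_eq_one_left h1, Nat.cast_one]
  split_ifs <;> omega

theorem no_sect [IsSimpleGroup G] (h8 : Nat.card (S : Subgroup G) = 8)
    (hS : (S : Subgroup G) ≤ centralizer ({t} : Set G)) (ht : t ∈ (S : Subgroup G))
    (ht2 : orderOf t = 2) (hconj : ∀ s ∈ (S : Subgroup G), s ≠ 1 → IsConj t s)
    (hd : Sect S t O M) : False := by
  obtain ⟨Λ, h3, hS1, hO, hCS⟩ := hd.exists_hom
  obtain ⟨I, hI⟩ := Blocks.exists_isPModular 2 Nat.prime_two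
  have ht1 : ∀ c : centralizer ({t} : Set G), (c : G) = t → Λ c = 1 := fun c e =>
    hS1 c (by rw [e]; exact ht)
  choose F hFgen hF1 hFin hFzero hFval using fun i => hd.exists_fun ht2 ht1 hO i
  have hFcl : ∀ i, Cfsg.IsClassFunction G (F i) := fun i => Char.IsGen.isClassFunction (hFgen i)
  have hM0 : (Nat.card M : ℂ) = 3 * (Nat.card O : ℂ) := by rw [hd.card_M]; push_cast; rfl
  have hO0 : (Nat.card O : ℂ) ≠ 0 := Nat.cast_ne_zero.2 Nat.card_pos.ne'
  have hμ1 : ∀ v : M, (v : G) ∈ O → hd.mu Λ v = 1 := fun v hv =>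
    (hO (inclusion hd.le_cent v) v.2).2 hv
  have hnorm1 : ∀ v : M, (hd.mu Λ v : ℂ) * conj (hd.mu Λ v : ℂ) = 1 := fun v => by
    rw [← Char.IsChar.inv_eq_conj (Char.isCharacter_hom (hd.mu Λ)) v, map_inv, ← Units.val_mul,
      mul_inv_cancel, Units.val_one]
  -- the inner products
  have hsumμ : ∑ v : M, (hd.mu Λ v : ℂ) = 0 := by
    refine Invol.sum_hom_coe _ fun e => ?_
    have hne : ¬ M ≤ O := fun h => by
      have h1 := relIndex_eq_one.2 h
      rw [hd.relIndex] at h1
      norm_num at h1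
    obtain ⟨v, hv, hvO⟩ := SetLike.not_le_iff_exists.1 hne
    exact hvO ((hO (inclusion hd.le_cent ⟨v, hv⟩) hv).1 (DFunLike.congr_fun e ⟨v, hv⟩))
  have hsplit : ∀ g : M → ℂ, (∀ v : M, (v : G) ∈ O → g v = 1) →
      ∑ v : M, (if (v : G) ∈ O then (8 : ℂ) else 2 * g v) =
        2 * ∑ v : M, g v + 6 * (Nat.card O : ℂ) := by
    intro g hg
    rw [← hd.card_filter_O, Finset.card_filter, Nat.cast_sum, Finset.mul_sum, Finset.mul_sum,
      ← Finset.sum_add_distrib]
    refine Finset.sum_congr rfl fun v _ => ?_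
    by_cases hv : (v : G) ∈ O
    · simp [hv, hg v hv]; norm_num
    · simp [hv]
  have hii : ∀ i, Cfsg.classInner (F i) (F i) = 4 := by
    intro i
    rw [hFin i _ (hFcl i)]
    have : ∀ v : M, (hd.mu Λ v : ℂ) ^ i * conj (F i (t * (v : G))) =
        if (v : G) ∈ O then 8 else 2 * 1 := fun v => by
      rw [hFval]
      by_cases hv : (v : G) ∈ O
      · simp [hv, hμ1 v hv]; exact map_ofNat _ _
      · simp only [hv, if_false, map_mul, map_pow, map_ofNat]
        rw [mul_left_comm, ← mul_pow, hnorm1, one_pow]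
    rw [Finset.sum_congr rfl fun v _ => this v, hsplit _ (fun _ _ => rfl), Finset.sum_const,
      Finset.card_univ, ← Nat.card_eq_fintype_card, nsmul_eq_mul, mul_one, hM0]
    field_simp
    ring
  have h10 : Cfsg.classInner (F 1) (F 0) = 2 := by
    rw [hFin 1 _ (hFcl 0)]
    have : ∀ v : M, (hd.mu Λ v : ℂ) ^ 1 * conj (F 0 (t * (v : G))) =
        if (v : G) ∈ O then 8 else 2 * (hd.mu Λ v : ℂ) := fun v => by
      rw [hFval]
      by_cases hv : (v : G) ∈ O
      · simp [hv, hμ1 v hv]; exact map_ofNat _ _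
      · simp only [hv, if_false, map_mul, pow_zero, map_one, map_ofNat]; ring
    rw [Finset.sum_congr rfl fun v _ => this v, hsplit _ (fun v hv => by simp [hμ1 v hv]), hsumμ,
      hM0]
    field_simp
    ring
  have h01 : Cfsg.classInner (F 0) (F 1) = 2 := by
    rw [← Char.classInner_conj_symm, h10]; exact map_ofNat _ _
  have hnorm : Cfsg.classInner (F 0 - F 1) (F 0 - F 1) = ((4 : ℕ) : ℂ) := by
    simp only [Char.classInner_sub_left, Char.classInner_sub_right, hii, h01, h10]; norm_num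
  have hone : Cfsg.classInner (F 0 - F 1) (fun _ => (1 : ℂ)) = 1 := by
    have hcl : Cfsg.IsClassFunction G (fun _ : G => (1 : ℂ)) := fun _ _ => rfl
    rw [Char.classInner_sub_left, hFin 0 _ hcl, hFin 1 _ hcl]
    simp only [map_one, mul_one, pow_zero, pow_one, hsumμ, mul_zero, sub_zero, Finset.sum_const,
      Finset.card_univ, ← Nat.card_eq_fintype_card, nsmul_eq_mul]
    exact inv_mul_cancel₀ (Nat.cast_ne_zero.2 Nat.card_pos.ne')
  have hFgen' : Cfsg.IsGeneralizedCharacter G (F 0 - F 1) :=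
    Char.isGeneralized_sub (hFgen 0) (hFgen 1)
  have hFcl' := Char.IsGen.isClassFunction hFgen'
  obtain ⟨T, s, hcard, hT, -, hTs, hTsum⟩ :=
    Invol.exists_signed_support hFgen' le_rfl hone hnorm
  -- the relations at `t`
  have hrel1 : 1 + ∑ χ ∈ T, s χ * (χ : G → ℂ) t = 0 := by
    rw [← hTsum fun χ => (χ : G → ℂ) t, Invol.apply_eq_sum hFcl', Pi.sub_apply]
    have e0 := hFval 0 1; have e1 := hFval 1 1
    simp only [OneMemClass.coe_one, mul_one, one_mem, if_true] at e0 e1
    rw [e0, e1, sub_self]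
  have hFprod : ∀ a : G, (F 0 - F 1) (a * t * a⁻¹ * t) = 0 := by
    intro a
    set g := a * t * a⁻¹ * t with hg
    rw [Pi.sub_apply]
    by_cases hcon : ∃ v ∈ M, IsConj g (t * v)
    · obtain ⟨v, hv, hgv⟩ := hcon
      obtain ⟨b, hb⟩ := isConj_iff.1 hgv
      have hvO : v ∈ O := by
        by_contra hvO
        have htt : t * t = 1 := by rw [← sq, ← ht2, pow_orderOf_eq_one]
        have hti : t⁻¹ = t := inv_eq_of_mul_eq_one_right htt
        have hinv : t * g * t⁻¹ = g⁻¹ := by
          rw [hg]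
          simp only [mul_inv_rev, inv_inv, hti, mul_assoc, htt, mul_one]
        set w := b * t * b⁻¹ with hw
        have hwv : w * (t * v) * w⁻¹ = t * v⁻¹ := by
          calc w * (t * v) * w⁻¹ = b * (t * g * t⁻¹) * b⁻¹ := by rw [hw, ← hb]; group
            _ = (b * g * b⁻¹)⁻¹ := by rw [hinv]; group
            _ = t * v⁻¹ := by rw [hb, mul_inv_rev, hti]; exact (hd.comm hv).inv_left.eq
        obtain ⟨hwC, he⟩ := hd.conj_mem ht2 hv (inv_mem hv) hwv
        have h2 := (hd.inner w hwC v hv hvO (he ▸ inv_mem hv)).2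
        rw [he] at h2
        obtain ⟨j, hj⟩ := hd.odd.of_dvd_nat (orderOf_mk v hv ▸ orderOf_dvd_natCard (⟨v, hv⟩ : M))
        apply hvO
        have hp : v ^ (2 * j + 1) = 1 := by rw [← hj, pow_orderOf_eq_one]
        have e : (v⁻¹ * v⁻¹) ^ j = v := by
          rw [← pow_two, ← pow_mul, inv_pow]
          exact inv_eq_of_mul_eq_one_right (by rw [← pow_succ]; exact hp)
        exact e ▸ pow_mem h2 j
      have e : ∀ i, F i g = 8 := fun i => by
        have h1 := hFcl i g b
        rw [hb, hFval i ⟨v, hv⟩, if_pos hvO] at h1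
        exact h1.symm
      rw [e, e, sub_self]
    · push Not at hcon
      rw [hFzero 0 g hcon, hFzero 1 g hcon, sub_self]
  have hrel2 : 1 + ∑ χ ∈ T, s χ * ((χ : G → ℂ) t ^ 2 / (χ : G → ℂ) 1) = 0 := by
    have h := hTsum fun χ => (χ : G → ℂ) t ^ 2 / (χ : G → ℂ) 1
    simp only [one_pow, div_one] at h
    rw [← h]
    have hG : (Nat.card G : ℂ) ≠ 0 := Char.card_ne_zero
    have e : ∀ χ : Cfsg.IrrCharacter G, (χ : G → ℂ) t ^ 2 / (χ : G → ℂ) 1 =
        (Nat.card G : ℂ)⁻¹ * ∑ a, (χ : G → ℂ) (a * t * a⁻¹ * t) := by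
      intro χ
      have h := CharArith.classMult χ.2 t t
      have h1 := Char.IsIrr.one_ne_zero χ.2
      field_simp
      linear_combination -h
    simp only [e, Finset.mul_sum]
    rw [Finset.sum_comm]
    refine Finset.sum_eq_zero fun a _ => ?_
    simp only [← mul_assoc, mul_comm _ (Nat.card G : ℂ)⁻¹]
    simp only [mul_assoc _ (Cfsg.classInner (F 0 - F 1) _), ← Finset.mul_sum]
    rw [Invol.apply_eq_sum hFcl', hFprod, mul_zero]
  -- each of the three characters contributes little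
  have key : ∀ χ ∈ T, ∃ (m : ℤ) (r : ℝ), s χ * (χ : G → ℂ) t = m ∧
      s χ * ((χ : G → ℂ) t ^ 2 / (χ : G → ℂ) 1) = (r : ℂ) ∧ -2 ≤ m ∧ m ≤ 2 ∧
      |r| ≤ 2 / 5 ∧ ((m = 1 ∨ m = -1) → |r| ≤ 1 / 7) := by
    intro χ hχ
    obtain ⟨hne, hs⟩ := hT χ hχ
    obtain ⟨e, he, he'⟩ : ∃ e : ℤ, s χ = e ∧ (e = 1 ∨ e = -1) := by
      rcases hs with h | h
      · exact ⟨1, by simp [h], Or.inl rfl⟩
      · exact ⟨-1, by simp [h], Or.inr rfl⟩
    have hcl := Char.isClassFunction_of_isIrr χ.2
    obtain ⟨m0, hm0, hb0⟩ := mult_small (hFgen 0) (hF1 0) (hii 0) χ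
    obtain ⟨m1, hm1, hb1⟩ := mult_small (hFgen 1) (hF1 1) (hii 1) χ
    obtain ⟨m2, hm2, hb2⟩ := mult_small (hFgen 2) (hF1 2) (hii 2) χ
    have hdiff : m0 - m1 = e := by
      have h := hTs χ hχ
      rw [Char.classInner_sub_left, hm0, hm1, he] at h
      exact_mod_cast h
    have hprin : χ ∈ Cfsg.principalBlock I G := by
      by_contra hnp
      have h := hTs χ hχ
      rw [Char.classInner_sub_left, hFin 0 _ hcl, hFin 1 _ hcl,
        hd.sum_eq_zero hS h8 ht ht2 hI h3 hO hCS hnp 0,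
        hd.sum_eq_zero hS h8 ht ht2 hI h3 hO hCS hnp 1] at h
      rcases hs with h' | h' <;> rw [h'] at h <;> norm_num at h
    have hk : (χ : G → ℂ) t = ((m0 + m1 + m2 : ℤ) : ℂ) := by
      have h := hd.sum_principal (Λ := Λ) ht2 hI h3 hO hprin
      have a0 := hFin 0 _ hcl; have a1 := hFin 1 _ hcl; have a2 := hFin 2 _ hcl
      simp only [pow_zero, one_mul, pow_one] at a0 a1
      rw [mul_add, mul_add, ← a0, ← a1, ← a2, hm0, hm1, hm2] at h
      have h' := congrArg conj h
      simp only [Complex.conj_conj, map_add, map_intCast] at h'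
      rw [← h']; push_cast; rfl
    set k := m0 + m1 + m2 with hkdef
    obtain ⟨d, hdeg, hd7, hd10⟩ :=
      degree_bound (S := S) h8 ht2 hconj hne hk (by omega)
    refine ⟨e * k, ((e * k ^ 2 : ℤ) : ℝ) / (d : ℝ), by rw [he, hk]; push_cast; rfl, ?_, ?_⟩
    · rw [he, hk, hdeg]; push_cast; ring
    have habs : |((e * k ^ 2 : ℤ) : ℝ) / (d : ℝ)| = ((k ^ 2 : ℤ) : ℝ) / (d : ℝ) := by
      rw [abs_div, Nat.abs_cast]
      congr 1
      push_cast
      rcases he' with rfl | rfl <;> simp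
    rw [habs]
    have hk2 : k = -2 ∨ k = -1 ∨ k = 0 ∨ k = 1 ∨ k = 2 := by omega
    have hbd : ((k ^ 2 : ℤ) : ℝ) / (d : ℝ) ≤ 2 / 5 ∧
        ((k = 1 ∨ k = -1) → ((k ^ 2 : ℤ) : ℝ) / (d : ℝ) ≤ 1 / 7) := by
      have h10 : (k = 2 ∨ k = -2) → (10 : ℝ) ≤ d := fun h => by exact_mod_cast hd10 h
      have h7 : k ≠ 0 → (7 : ℝ) ≤ d := fun h => by
        rw [if_neg h, add_zero] at hd7; exact_mod_cast hd7
      rcases hk2 with h | h | h | h | h <;> rw [h] at h10 h7 ⊢
      · have := h10 (Or.inr rfl)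
        exact ⟨by norm_num; rw [div_le_div_iff₀ (by linarith) (by norm_num)]; linarith,
          fun h => by omega⟩
      · have := h7 (by norm_num)
        have hh : (1 : ℝ) / d ≤ 1 / 7 := one_div_le_one_div_of_le (by norm_num) this
        norm_num at hh ⊢
        exact ⟨hh.trans (by norm_num), hh⟩
      · norm_num
      · have := h7 (by norm_num)
        have hh : (1 : ℝ) / d ≤ 1 / 7 := one_div_le_one_div_of_le (by norm_num) this
        norm_num at hh ⊢
        exact ⟨hh.trans (by norm_num), hh⟩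
      · have := h10 (Or.inl rfl)
        exact ⟨by norm_num; rw [div_le_div_iff₀ (by linarith) (by norm_num)]; linarith,
          fun h => by omega⟩
    refine ⟨?_, ?_, hbd.1, fun hm => hbd.2 ?_⟩ <;> rcases he' with rfl | rfl <;> omega
  obtain ⟨x, y, z, hxy, hxz, hyz, hTeq⟩ := Finset.card_eq_three.1 (by omega : T.card = 3)
  obtain ⟨mx, rx, hmx, hrx, bx⟩ := key x (by simp [hTeq])
  obtain ⟨my, ry, hmy, hry, by'⟩ := key y (by simp [hTeq])
  obtain ⟨mz, rz, hmz, hrz, bz⟩ := key z (by simp [hTeq])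
  rw [hTeq, Finset.sum_insert (by simp [hxy, hxz]), Finset.sum_pair hyz, hmx, hmy, hmz] at hrel1
  rw [hTeq, Finset.sum_insert (by simp [hxy, hxz]), Finset.sum_pair hyz, hrx, hry, hrz] at hrel2
  have hm : 1 + (mx + (my + mz)) = 0 := by exact_mod_cast hrel1
  have hr : 1 + (rx + (ry + rz)) = 0 := by exact_mod_cast hrel2
  obtain ⟨ax, ax', axr, axi⟩ := bx
  obtain ⟨ay, ay', ayr, ayi⟩ := by'
  obtain ⟨az, az', azr, azi⟩ := bz
  rw [abs_le] at axr ayr azr
  rcases (show (mx = 1 ∨ mx = -1) ∨ (my = 1 ∨ my = -1) ∨ (mz = 1 ∨ mz = -1) by omega)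
    with h | h | h
  · have := abs_le.1 (axi h); linarith
  · have := abs_le.1 (ayi h); linarith
  · have := abs_le.1 (azi h); linarith

end Cfsg.Agent.E8Auto
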